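import Mathlib
import Cfsg.Agent.Lib.LocalEven.PMinFF.Basic
import Cfsg.Agent.Lib.LocalEven.OffenderSL2.Coords

/-!
Sections of a module, and pairs of offenders generating `SL₂` with their coordinates.
-/

set_option autoImplicit false

namespace CfsgLib.LocalEven.PMinFF

open CfsgLib.LocalEven.PGV CfsgLib.LocalEven.OffenderSL2 CfsgLib.LocalEven.NaturalRecognition
open scoped MatrixGroups

universe v

variable {W : Type v} [AddCommGroup W] {p : ℕ}

theorem card_comap_surj {X Y : Type*} [AddCommGroup X] [AddCommGroup Y] [Finite X] {f : X →+ Y}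
    (hf : Function.Surjective f) (K : AddSubgroup Y) :
    Nat.card (K.comap f) = Nat.card K * Nat.card f.ker := by
  have h1 := AddSubgroup.card_mul_index (K.comap f)
  have h2 := AddSubgroup.card_mul_index K
  have h3 : Nat.card X = Nat.card Y * Nat.card f.ker := by
    rw [AddSubgroup.card_eq_card_quotient_mul_card_addSubgroup f.ker,
      Nat.card_congr (QuotientAddGroup.quotientKerEquivOfSurjective f hf).toEquiv]
  have h4 : (K.comap f).index = K.index := AddSubgroup.index_comap_of_surjective K hf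
  rw [h4, h3, ← h2] at h1
  exact Nat.eq_of_mul_eq_mul_right
    (Nat.pos_of_ne_zero (h4 ▸ AddSubgroup.index_ne_zero_of_finite)) (h1.trans (by ring))

/-- `L` acts on the section `W₁ / ker π` through `φ`. -/
structure Section {U : Type v} [AddCommGroup U] (L : Subgroup (Γ W)) (W₁ : AddSubgroup W)
    (π : W₁ →+ U) (φ : ↥L →* Γ U) : Prop where
  surj : Function.Surjective π
  inv : ∀ g ∈ L, ∀ w ∈ W₁, g • w ∈ W₁
  equiv : ∀ (g : L) (w w' : W₁), (w' : W) = (g : Γ W) • (w : W) → π w' = φ g • π w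

/-- `B` is trivial outside the section and its fixed points cover those of the section. -/
structure Exact {U : Type v} [AddCommGroup U] {L : Subgroup (Γ W)} (W₁ : AddSubgroup W)
    (π : W₁ →+ U) (φ : ↥L →* Γ U) (B : Subgroup (Γ W)) : Prop where
  top : W₁ ⊔ fix B = ⊤
  lift : ∀ x : W₁, π x ∈ fix (img φ B) → (x : W) ∈ fix B

namespace Section

variable {U : Type v} [AddCommGroup U] {L : Subgroup (Γ W)} {W₁ : AddSubgroup W}
  {π : W₁ →+ U} {φ : ↥L →* Γ U} (S : Section L W₁ π φ)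
include S

/-- Fixed points map to fixed points. -/
theorem map_mem_fix {B : Subgroup (Γ W)} {x : W₁} (hx : (x : W) ∈ fix B) : π x ∈ fix (img φ B) := by
  rintro _ ⟨g, hg, rfl⟩
  exact (S.equiv g x x (hx g hg).symm).symm

theorem sub_eq (g : L) (x : W₁) :
    π ⟨(g : Γ W) • (x : W) - x, W₁.sub_mem (S.inv g g.2 x x.2) x.2⟩ = φ g • π x - π x := by
  rw [← S.equiv g x ⟨(g : Γ W) • (x : W), S.inv g g.2 x x.2⟩ rfl, ← map_sub]
  rfl

variable [Finite W]

/-- The fixed points of a subgroup on `W` are no more than on the section, and equality forces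
exactness. -/
theorem card_bound (B : Subgroup (Γ W)) :
    Nat.card (fix B) * Nat.card U ≤ Nat.card W * Nat.card (fix (img φ B)) ∧
      (Nat.card W * Nat.card (fix (img φ B)) ≤ Nat.card (fix B) * Nat.card U →
        Exact W₁ π φ B) := by
  haveI : Finite U := Finite.of_surjective π S.surj
  set E := (fix (img φ B)).comap π with hE
  set D := (fix B).addSubgroupOf W₁ with hD
  have hDE : D ≤ E := fun x hx => S.map_mem_fix hx
  have hEc : Nat.card E = Nat.card (fix (img φ B)) * Nat.card π.ker := card_comap_surj S.surj _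
  have hW₁ : Nat.card W₁ = Nat.card U * Nat.card π.ker := by
    rw [AddSubgroup.card_eq_card_quotient_mul_card_addSubgroup π.ker,
      Nat.card_congr (QuotientAddGroup.quotientKerEquivOfSurjective π S.surj).toEquiv]
  have hDc : Nat.card D = Nat.card ↥(fix B ⊓ W₁) := by
    rw [hD, ← AddSubgroup.inf_addSubgroupOf_right]
    exact Nat.card_congr (AddSubgroup.addSubgroupOfEquivOfLe inf_le_right).toEquiv
  have e := addCard_mul (fix B) W₁
  rw [hW₁, ← hDc] at e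
  have hk : 0 < Nat.card π.ker := Nat.card_pos
  set s := Nat.card ↥(fix B ⊔ W₁) with hs
  have hsW : s ≤ Nat.card W := Nat.card_le_card_of_injective _ Subtype.val_injective
  have hDle : Nat.card D ≤ Nat.card E := AddSubgroup.card_le_of_le hDE
  have key : Nat.card (fix B) * Nat.card U * Nat.card π.ker = s * Nat.card D := by
    rw [← e]; ring
  refine ⟨Nat.le_of_mul_le_mul_right ?_ hk, fun hge => ?_⟩
  · calc _ = s * Nat.card D := key
      _ ≤ Nat.card W * Nat.card E := Nat.mul_le_mul hsW hDle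
      _ = _ := by rw [hEc]; ring
  · have h1 : Nat.card W * Nat.card E ≤ s * Nat.card D := by
      rw [← key, hEc]
      calc Nat.card W * (Nat.card (fix (img φ B)) * Nat.card π.ker)
          = Nat.card W * Nat.card (fix (img φ B)) * Nat.card π.ker := by ring
        _ ≤ _ := Nat.mul_le_mul_right _ hge
    have hD0 : 0 < Nat.card D := Nat.card_pos
    have hs' : Nat.card W ≤ s := Nat.le_of_mul_le_mul_right
      ((Nat.mul_le_mul_left _ hDle).trans h1) hD0
    have hD' : Nat.card E ≤ Nat.card D :=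
      Nat.le_of_mul_le_mul_left (h1.trans (Nat.mul_le_mul_right _ hsW)) (Nat.card_pos (α := W))
    refine ⟨?_, fun x hx => ?_⟩
    · rw [sup_comm]
      exact AddSubgroup.eq_top_of_le_card _ hs'
    · have e := AddSubgroup.eq_of_le_of_card_ge hDE hD'
      exact e.ge hx

end Section

/-- Coordinates for a pair of offenders generating `SL₂` on a natural section. -/
structure Coord {F : Type v} [Field F] (A B : Subgroup (Γ W)) (ρ : ↥(A ⊔ B) ≃* SL(2, F))
    (ψ : W →+ (Fin 2 → F)) : Prop where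
  cardA : Nat.card A = Nat.card F
  cardB : Nat.card B = Nat.card F
  surj : Function.Surjective ψ
  ker : ∀ w, ψ w = 0 ↔ w ∈ fix (A ⊔ B)
  equiv : ∀ (g : ↥(A ⊔ B)) (w : W), ψ ((g : Γ W) • w) = (ρ g).1.mulVec (ψ w)
  memA : ∀ g : ↥(A ⊔ B), (g : Γ W) ∈ A ↔ ∃ t, ρ g = up t
  memB : ∀ g : ↥(A ⊔ B), (g : Γ W) ∈ B ↔ ∃ t, ρ g = lo t
  fixA : ∀ w, w ∈ fix A ↔ ψ w 1 = 0
  fixB : ∀ w, w ∈ fix B ↔ ψ w 0 = 0

/-- A pair of offenders generating `SL₂` on a natural section. -/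
def Pair (A B : Subgroup (Γ W)) : Prop :=
  ∃ (F : Type v) (_ : Field F) (_ : Fintype F) (ρ : ↥(A ⊔ B) ≃* SL(2, F)) (ψ : W →+ (Fin 2 → F)),
    Coord A B ρ ψ

theorem eq_zero_of_up_lo {F : Type*} [Field F] {v : Fin 2 → F}
    (hu : (up (1 : F)).1.mulVec v = v) (hl : (lo (1 : F)).1.mulVec v = v) : v = 0 := by
  rw [Setup.up_mulVec] at hu
  rw [Setup.lo_mulVec] at hl
  have h1 := congrFun hu 0
  have h2 := congrFun hl 1
  simp at h1 h2
  funext i
  fin_cases i
  · exact h2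
  · exact h1

theorem eq_up_of_fix {F : Type*} [Field F] {s : SL(2, F)} {c : F} (hc : c ≠ 0)
    (h : s.1.mulVec ![c, 0] = ![c, 0]) : s = up (s.1 0 1) := by
  have h0 := congrFun h 0
  have h1 := congrFun h 1
  simp [Matrix.mulVec, dotProduct, Fin.sum_univ_two, hc] at h0 h1
  have hd := s.2
  rw [Matrix.det_fin_two, h0, h1, one_mul, mul_zero, sub_zero] at hd
  apply Subtype.ext
  ext i j
  fin_cases i <;> fin_cases j <;> simp [up_coe, h0, h1, hd]

theorem eq_lo_of_fix {F : Type*} [Field F] {s : SL(2, F)} {c : F} (hc : c ≠ 0)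
    (h : s.1.mulVec ![0, c] = ![0, c]) : s = lo (s.1 1 0) := by
  have h0 := congrFun h 0
  have h1 := congrFun h 1
  simp [Matrix.mulVec, dotProduct, Fin.sum_univ_two, hc] at h0 h1
  have hd := s.2
  rw [Matrix.det_fin_two, h0, h1, mul_one, zero_mul, sub_zero] at hd
  apply Subtype.ext
  ext i j
  fin_cases i <;> fin_cases j <;> simp [lo_coe, h0, h1, hd]

theorem up_injective {F : Type*} [Field F] : Function.Injective (up : F → SL(2, F)) := fun s t h => by
  simpa [up_coe] using congrArg (fun x : SL(2, F) => x.1 0 1) h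

theorem lo_injective {F : Type*} [Field F] : Function.Injective (lo : F → SL(2, F)) := fun s t h => by
  simpa [lo_coe] using congrArg (fun x : SL(2, F) => x.1 1 0) h

/-- Adapted coordinates exist as soon as some coordinates do. -/
theorem pair_of_lines [Finite W] {F : Type v} [Field F] [Fintype F] {A B : Subgroup (Γ W)}
    (ρ₀ : ↥(A ⊔ B) ≃* SL(2, F)) (ψ₀ : W →+ (Fin 2 → F)) (hs : Function.Surjective ψ₀)
    (hk : ∀ w, ψ₀ w = 0 ↔ w ∈ fix (A ⊔ B))
    (he : ∀ (g : ↥(A ⊔ B)) (w : W), ψ₀ ((g : Γ W) • w) = (ρ₀ g).1.mulVec (ψ₀ w))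
    (hA : Nat.card A = Nat.card F) (hB : Nat.card B = Nat.card F)
    (hfA : Nat.card (fix A) = Nat.card F * Nat.card (fix (A ⊔ B)))
    (hfB : Nat.card (fix B) = Nat.card F * Nat.card (fix (A ⊔ B))) : Pair A B := by
  classical
  have hq : 2 ≤ Nat.card F := Finite.one_lt_card
  have hexu : ∀ C : Subgroup (Γ W), Nat.card (fix C) = Nat.card F * Nat.card (fix (A ⊔ B)) →
      ∃ w ∈ fix C, ψ₀ w ≠ 0 := by
    intro C hC
    by_contra hc
    push Not at hc
    have h1 : fix C ≤ fix (A ⊔ B) := fun w hw => (hk w).1 (hc w hw)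
    have h2 := AddSubgroup.card_le_of_le h1
    rw [hC] at h2
    have h3 : 0 < Nat.card (fix (A ⊔ B)) := Nat.card_pos
    nlinarith
  obtain ⟨wA, hwA, hu⟩ := hexu A hfA
  obtain ⟨wB, hwB, hu'⟩ := hexu B hfB
  set u := ψ₀ wA
  set u' := ψ₀ wB
  have hfixA : ∀ g : ↥(A ⊔ B), (g : Γ W) ∈ A → (ρ₀ g).1.mulVec u = u := fun g hg => by
    rw [← he, hwA _ hg]
  have hfixB : ∀ g : ↥(A ⊔ B), (g : Γ W) ∈ B → (ρ₀ g).1.mulVec u' = u' := fun g hg => by
    rw [← he, hwB _ hg]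
  set D := u 0 * u' 1 - u 1 * u' 0 with hD
  have hD0 : D ≠ 0 := by
    intro h0
    obtain ⟨l, hl⟩ : ∃ l : F, u' = l • u := by
      by_cases h1 : u 0 = 0
      · have h1' : u 1 ≠ 0 := fun e => hu (funext fun i => by fin_cases i <;> assumption)
        refine ⟨u' 1 / u 1, funext fun i => ?_⟩
        fin_cases i
        · show u' 0 = (u' 1 / u 1) * u 0
          have h2 : u 1 * u' 0 = 0 := by
            rw [hD, h1, zero_mul, zero_sub, neg_eq_zero] at h0
            exact h0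
          rw [h1, mul_zero]
          exact (mul_eq_zero.1 h2).resolve_left h1'
        · show u' 1 = (u' 1 / u 1) * u 1
          rw [div_mul_cancel₀ _ h1']
      · refine ⟨u' 0 / u 0, funext fun i => ?_⟩
        fin_cases i
        · show u' 0 = (u' 0 / u 0) * u 0
          rw [div_mul_cancel₀ _ h1]
        · show u' 1 = (u' 0 / u 0) * u 1
          field_simp
          linear_combination h0
    have hall : ∀ g : ↥(A ⊔ B), (ρ₀ g).1.mulVec u' = u' := by
      let S : Subgroup (Γ W) :=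
        { carrier := {x | ∃ h : x ∈ A ⊔ B, (ρ₀ ⟨x, h⟩).1.mulVec u' = u'}
          one_mem' := ⟨one_mem _, by
            show (ρ₀ 1).1.mulVec u' = u'
            rw [map_one]; exact Matrix.one_mulVec u'⟩
          mul_mem' := by
            rintro a b ⟨ha, ea⟩ ⟨hb, eb⟩
            refine ⟨mul_mem ha hb, ?_⟩
            show (ρ₀ (⟨a, ha⟩ * ⟨b, hb⟩)).1.mulVec u' = u'
            rw [map_mul, Matrix.SpecialLinearGroup.coe_mul, ← Matrix.mulVec_mulVec, eb, ea]
          inv_mem' := by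
            rintro a ⟨ha, ea⟩
            refine ⟨inv_mem ha, ?_⟩
            show (ρ₀ (⟨a, ha⟩⁻¹)).1.mulVec u' = u'
            conv_lhs => rw [← ea]
            rw [Matrix.mulVec_mulVec, ← Matrix.SpecialLinearGroup.coe_mul, ← map_mul, inv_mul_cancel,
              map_one, Matrix.SpecialLinearGroup.coe_one, Matrix.one_mulVec] }
      have hle : A ⊔ B ≤ S := sup_le
        (fun a ha => ⟨Subgroup.mem_sup_left ha, by
          rw [hl, Matrix.mulVec_smul, hfixA ⟨a, Subgroup.mem_sup_left ha⟩ ha]⟩)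
        (fun b hb => ⟨Subgroup.mem_sup_right hb, hfixB ⟨b, Subgroup.mem_sup_right hb⟩ hb⟩)
      exact fun g => (hle g.2).2
    refine hu' (eq_zero_of_up_lo ?_ ?_)
    · have := hall (ρ₀.symm (up 1)); rwa [MulEquiv.apply_symm_apply] at this
    · have := hall (ρ₀.symm (lo 1)); rwa [MulEquiv.apply_symm_apply] at this
  let g : SL(2, F) := ⟨!![u' 1 / D, -(u' 0 / D); -u 1, u 0], by
    rw [Matrix.det_fin_two_of]
    field_simp
    rw [hD]; ring⟩
  have hgu : g.1.mulVec u = ![1, 0] := by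
    funext i
    fin_cases i
    · show (!![u' 1 / D, -(u' 0 / D); -u 1, u 0]).mulVec u 0 = _
      simp [Matrix.mulVec, dotProduct, Fin.sum_univ_two]
      field_simp
      rw [hD]; ring
    · show (!![u' 1 / D, -(u' 0 / D); -u 1, u 0]).mulVec u 1 = _
      simp [Matrix.mulVec, dotProduct, Fin.sum_univ_two]
      ring
  have hgu' : g.1.mulVec u' = ![0, D] := by
    funext i
    fin_cases i
    · show (!![u' 1 / D, -(u' 0 / D); -u 1, u 0]).mulVec u' 0 = _
      simp [Matrix.mulVec, dotProduct, Fin.sum_univ_two]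
      ring
    · show (!![u' 1 / D, -(u' 0 / D); -u 1, u 0]).mulVec u' 1 = _
      simp [Matrix.mulVec, dotProduct, Fin.sum_univ_two]
      rw [hD]; ring
  let ρ : ↥(A ⊔ B) ≃* SL(2, F) := ρ₀.trans (MulAut.conj g)
  let ψ : W →+ (Fin 2 → F) := AddMonoidHom.mk' (fun w => g.1.mulVec (ψ₀ w))
    fun a b => by rw [map_add, Matrix.mulVec_add]
  have hρ : ∀ (x : ↥(A ⊔ B)) (w : W), ψ ((x : Γ W) • w) = (ρ x).1.mulVec (ψ w) := fun x w => by
    show g.1.mulVec (ψ₀ _) = ((g * ρ₀ x * g⁻¹ : SL(2, F))).1.mulVec (g.1.mulVec (ψ₀ w))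
    rw [he, Matrix.mulVec_mulVec, Matrix.mulVec_mulVec, ← Matrix.SpecialLinearGroup.coe_mul,
      ← Matrix.SpecialLinearGroup.coe_mul, inv_mul_cancel_right]
  have hψs : Function.Surjective ψ := fun v => by
    obtain ⟨w, hw⟩ := hs ((g⁻¹ : SL(2, F)).1.mulVec v)
    refine ⟨w, ?_⟩
    show g.1.mulVec (ψ₀ w) = v
    rw [hw, Matrix.mulVec_mulVec, ← Matrix.SpecialLinearGroup.coe_mul, mul_inv_cancel,
      Matrix.SpecialLinearGroup.coe_one, Matrix.one_mulVec]
  have hψk : ∀ w, ψ w = 0 ↔ w ∈ fix (A ⊔ B) := fun w => by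
    rw [← hk]
    refine ⟨fun h => ?_, fun h => by show g.1.mulVec (ψ₀ w) = 0; rw [h, Matrix.mulVec_zero]⟩
    have e : g.1.mulVec (ψ₀ w) = 0 := h
    have := congrArg ((g⁻¹ : SL(2, F)).1.mulVec ·) e
    simp only [Matrix.mulVec_zero] at this
    rwa [Matrix.mulVec_mulVec, ← Matrix.SpecialLinearGroup.coe_mul, inv_mul_cancel,
      Matrix.SpecialLinearGroup.coe_one, Matrix.one_mulVec] at this
  have hAu : ∀ x : ↥(A ⊔ B), (x : Γ W) ∈ A → ∃ t, ρ x = up t := fun x hx => by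
    refine ⟨_, eq_up_of_fix (one_ne_zero (α := F)) ?_⟩
    rw [← hgu]
    show (ρ x).1.mulVec (ψ wA) = ψ wA
    rw [← hρ, hwA _ hx]
  have hBl : ∀ x : ↥(A ⊔ B), (x : Γ W) ∈ B → ∃ t, ρ x = lo t := fun x hx => by
    refine ⟨_, eq_lo_of_fix hD0 ?_⟩
    rw [← hgu']
    show (ρ x).1.mulVec (ψ wB) = ψ wB
    rw [← hρ, hwB _ hx]
  have honto : ∀ (C : Subgroup (Γ W)) (hC : C ≤ A ⊔ B) (f : F → SL(2, F)),
      Nat.card C = Nat.card F → (∀ x : ↥(A ⊔ B), (x : Γ W) ∈ C → ∃ t, ρ x = f t) →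
        ∀ x : ↥(A ⊔ B), (x : Γ W) ∈ C ↔ ∃ t, ρ x = f t := by
    intro C hC f hcard hmem x
    refine ⟨hmem x, fun ⟨t, ht⟩ => ?_⟩
    choose k hk' using fun c : C => hmem ⟨c, hC c.2⟩ c.2
    have hki : Function.Injective k := fun c d hcd => by
      have e : (⟨c, hC c.2⟩ : ↥(A ⊔ B)) = ⟨d, hC d.2⟩ := ρ.injective (by rw [hk', hk', hcd])
      exact Subtype.ext (congrArg (fun y : ↥(A ⊔ B) => (y : Γ W)) e)
    obtain ⟨c, hc⟩ := ((Nat.bijective_iff_injective_and_card k).2 ⟨hki, hcard⟩).2 t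
    have e : x = ⟨c, hC c.2⟩ := ρ.injective (by rw [ht, hk', hc])
    rw [e]; exact c.2
  have hfix : ∀ (C : Subgroup (Γ W)) (hC : C ≤ A ⊔ B) (i : Fin 2),
      Nat.card (fix C) = Nat.card F * Nat.card (fix (A ⊔ B)) →
      (∀ w ∈ fix C, ψ w i = 0) → ∀ w, w ∈ fix C ↔ ψ w i = 0 := by
    intro C hC i hcard hsub w
    refine ⟨hsub w, fun hw => ?_⟩
    let K : AddSubgroup (Fin 2 → F) := (Pi.evalAddMonoidHom (fun _ : Fin 2 => F) i).ker
    have hK : ∀ v, v ∈ K ↔ v i = 0 := fun v => AddMonoidHom.mem_ker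
    have hle : fix C ≤ K.comap ψ := fun x hx => (hK _).2 (hsub x hx)
    have hKc : Nat.card K = Nat.card F := by
      refine Nat.card_congr ⟨fun v => (v : Fin 2 → F) i.rev,
        fun c => ⟨Function.update 0 i.rev c, (hK _).2 (by fin_cases i <;> simp [Fin.rev])⟩,
        fun v => Subtype.ext (funext fun j => ?_), fun c => by simp⟩
      have hv := (hK _).1 v.2
      fin_cases i <;> fin_cases j <;> simp_all [Fin.rev]
    have hc2 : Nat.card (K.comap ψ) ≤ Nat.card (fix C) := by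
      have hker : ψ.ker = fix (A ⊔ B) := AddSubgroup.ext fun x => AddMonoidHom.mem_ker.trans (hψk x)
      rw [card_comap_surj hψs, hKc, hker, hcard]
    exact (AddSubgroup.eq_of_le_of_card_ge hle hc2).ge ((hK _).2 hw)
  refine ⟨F, inferInstance, inferInstance, ρ, ψ, ⟨hA, hB, hψs, hψk, hρ,
    honto A le_sup_left up hA hAu, honto B le_sup_right lo hB hBl,
    hfix A le_sup_left 1 hfA fun w hw => ?_, hfix B le_sup_right 0 hfB fun w hw => ?_⟩⟩
  · have h1 := (honto A le_sup_left up hA hAu (ρ.symm (up 1))).2 ⟨1, ρ.apply_symm_apply _⟩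
    have e := hρ (ρ.symm (up 1)) w
    rw [hw _ h1, ρ.apply_symm_apply, Setup.up_mulVec] at e
    simpa using congrFun e 0
  · have h1 := (honto B le_sup_right lo hB hBl (ρ.symm (lo 1))).2 ⟨1, ρ.apply_symm_apply _⟩
    have e := hρ (ρ.symm (lo 1)) w
    rw [hw _ h1, ρ.apply_symm_apply, Setup.lo_mulVec] at e
    simpa using congrFun e 1

theorem Setup.pair [Finite W] [Fact p.Prime] {P M T A : Subgroup (Γ W)} (h : Setup p P M T A)
    {k : Γ W} (hk : k ∈ P) (hkM : k ∉ M) : Pair A (cj k A) := by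
  obtain ⟨F, iF, iFt, ρ, ψ, hc, hs, h0, he, -⟩ := h.exists_coords
  have hP : A ⊔ cj k A = P := h.gen k hk hkM
  have hF : Nat.card F = Nat.card A := Nat.card_eq_fintype_card.trans hc
  refine pair_of_lines ((MulEquiv.subgroupCongr hP).trans ρ) ψ hs (fun w => by rw [hP, h0])
    (fun g w => he (MulEquiv.subgroupCongr hP g) w) hF.symm ?_ ?_ ?_
  · rw [OffenderSL2.card_cj, hF]
  · rw [hP, hF]; exact (h.cards hk hkM).1
  · rw [hP, hF, h.card_fix_cj]; exact (h.cards hk hkM).1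

namespace Pair

variable {A B : Subgroup (Γ W)} (hp : Pair A B)
include hp

theorem sup_fix : fix A ⊔ fix B = ⊤ := by
  obtain ⟨F, iF, iFt, ρ, ψ, c⟩ := hp
  refine eq_top_iff.2 fun w _ => ?_
  obtain ⟨a, ha⟩ := c.surj ![ψ w 0, 0]
  have h1 : a ∈ fix A := (c.fixA a).2 (by rw [ha]; rfl)
  have h2 : w - a ∈ fix B := (c.fixB _).2 (by rw [map_sub, Pi.sub_apply, ha]; simp)
  simpa using AddSubgroup.add_mem_sup h1 h2

/-- A nontrivial element moves into the fixed points of the partner only what it fixes. -/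
theorem mem_fix_of_sub {a : Γ W} (ha : a ∈ A) (ha1 : a ≠ 1) {w : W} (h : a • w - w ∈ fix B) :
    w ∈ fix A := by
  obtain ⟨F, iF, iFt, ρ, ψ, c⟩ := hp
  obtain ⟨t, ht⟩ := (c.memA ⟨a, Subgroup.mem_sup_left ha⟩).1 ha
  have ht0 : t ≠ 0 := fun e => ha1 (congrArg Subtype.val
    (ρ.injective (by rw [ht, e, up_zero, map_one]) : (⟨a, Subgroup.mem_sup_left ha⟩ : ↥(A ⊔ B)) = 1))
  refine (c.fixA w).2 ?_
  have e := (c.fixB _).1 h
  have e2 : ψ (a • w) = (ρ ⟨a, Subgroup.mem_sup_left ha⟩).1.mulVec (ψ w) :=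
    c.equiv ⟨a, Subgroup.mem_sup_left ha⟩ w
  rw [map_sub, Pi.sub_apply, e2, ht, Setup.up_mulVec] at e
  simp at e
  exact e.resolve_left ht0

theorem mem_fix_of_eq {a : Γ W} (ha : a ∈ A) (ha1 : a ≠ 1) {w : W} (h : a • w = w) : w ∈ fix A :=
  hp.mem_fix_of_sub ha ha1 (by rw [h, sub_self]; exact zero_mem _)

theorem card_eq : Nat.card B = Nat.card A := by
  obtain ⟨F, iF, iFt, ρ, ψ, c⟩ := hp
  rw [c.cardA, c.cardB]

/-- No nontrivial element normalises the partner. -/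
theorem not_normalize {a : Γ W} (ha : a ∈ A) (ha1 : a ≠ 1) : cj a B ≠ B := by
  intro hc
  obtain ⟨F, iF, iFt, ρ, ψ, c⟩ := hp
  set a' : ↥(A ⊔ B) := ⟨a, Subgroup.mem_sup_left ha⟩
  obtain ⟨t, ht⟩ := (c.memA a').1 ha
  have ht0 : t ≠ 0 := fun e => ha1 (congrArg Subtype.val
    (ρ.injective (by rw [ht, e, up_zero, map_one]) : a' = 1))
  set b := ρ.symm (lo 1)
  have hb : (b : Γ W) ∈ B := (c.memB b).2 ⟨1, ρ.apply_symm_apply _⟩
  obtain ⟨s, hs⟩ := (c.memB (a' * b * a'⁻¹)).1 (hc.le (conj_mem_cj hb))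
  rw [map_mul, map_mul, map_inv, ht, ρ.apply_symm_apply, up_neg] at hs
  have e := congrArg (fun x : SL(2, F) => x.1 0 1) hs
  simp [up_coe, lo_coe, Matrix.mul_apply, Fin.sum_univ_two] at e
  exact ht0 (by
    have h2 : t * t = 0 := by linear_combination -e
    exact mul_self_eq_zero.1 h2)

theorem nontriv : ∃ a ∈ A, a ≠ 1 := by
  obtain ⟨F, iF, iFt, ρ, ψ, c⟩ := hp
  refine ⟨(ρ.symm (up 1) : ↥(A ⊔ B)), (c.memA _).2 ⟨1, ρ.apply_symm_apply _⟩, fun h => ?_⟩
  have e : ρ.symm (up 1) = 1 := Subtype.ext h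
  rw [MulEquiv.map_eq_one_iff] at e
  exact one_ne_zero (up_injective (e.trans up_zero.symm))

theorem not_commute : ¬ ∀ a ∈ A, ∀ b ∈ B, Commute a b := by
  intro hc
  obtain ⟨a, ha, ha1⟩ := hp.nontriv
  refine hp.not_normalize ha ha1 ?_
  ext x
  rw [mem_cj]
  refine ⟨fun h => ?_, fun h => ?_⟩
  · have e : x = a * (a⁻¹ * x * a) * a⁻¹ := by group
    rw [e, (hc a ha _ h).eq, mul_inv_cancel_right]
    exact h
  · rw [mul_assoc, ← (hc a ha x h).eq, inv_mul_cancel_left]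
    exact h

end Pair

theorem Pair.symm [Finite W] {A B : Subgroup (Γ W)} (hp : Pair A B) : Pair B A := by
  obtain ⟨F, iF, iFt, ρ, ψ, c⟩ := hp
  have e : B ⊔ A = A ⊔ B := sup_comm B A
  have hcard : ∀ (C : Subgroup (Γ W)) (i : Fin 2), (∀ w, w ∈ fix C ↔ ψ w i = 0) →
      Nat.card (fix C) = Nat.card F * Nat.card (fix (A ⊔ B)) := by
    intro C i hC
    have h1 : fix C = ((Pi.evalAddMonoidHom (fun _ : Fin 2 => F) i).ker).comap ψ :=
      AddSubgroup.ext fun w => by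
        rw [hC w, AddSubgroup.mem_comap, AddMonoidHom.mem_ker]; rfl
    rw [h1, card_comap_surj c.surj]
    congr 1
    · refine Nat.card_congr ⟨fun v => (v : Fin 2 → F) i.rev,
        fun x => ⟨Function.update 0 i.rev x, AddMonoidHom.mem_ker.2 (by
          show Function.update (0 : Fin 2 → F) i.rev x i = 0
          fin_cases i <;> simp [Fin.rev])⟩,
        fun v => Subtype.ext (funext fun j => ?_), fun x => by simp⟩
      have hv : (v : Fin 2 → F) i = 0 := AddMonoidHom.mem_ker.1 v.2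
      fin_cases i <;> fin_cases j <;> simp_all [Fin.rev]
    · exact congrArg (fun K : AddSubgroup W => Nat.card K)
        (AddSubgroup.ext fun x => AddMonoidHom.mem_ker.trans (c.ker x))
  refine pair_of_lines ((MulEquiv.subgroupCongr e).trans ρ) ψ c.surj (fun w => by rw [c.ker, e])
    (fun g w => c.equiv (MulEquiv.subgroupCongr e g) w) c.cardB c.cardA ?_ ?_
  · rw [e]; exact hcard B 0 c.fixB
  · rw [e]; exact hcard A 1 c.fixA

/-- Pairs are conjugation invariant. -/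
theorem Pair.conj [Finite W] {A B : Subgroup (Γ W)} (hp : Pair A B) (g : Γ W) :
    Pair (cj g A) (cj g B) := by
  obtain ⟨F, iF, iFt, ρ, ψ, c⟩ := hp
  have e : cj g A ⊔ cj g B = cj g (A ⊔ B) := (Subgroup.map_sup _ _ _).symm
  let σ : ↥(cj g A ⊔ cj g B) ≃* ↥(A ⊔ B) :=
    (MulEquiv.subgroupCongr e).trans ((MulAut.conj g).subgroupMap (A ⊔ B)).symm
  have hσ : ∀ x : ↥(cj g A ⊔ cj g B), (σ x : Γ W) = g⁻¹ * (x : Γ W) * g := fun x => by
    show (MulAut.conj g).symm ((MulEquiv.subgroupCongr e x : _) : Γ W) = _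
    simp [MulEquiv.subgroupCongr]
    rfl
  let ψ' : W →+ (Fin 2 → F) := ψ.comp (DistribSMul.toAddMonoidHom W g⁻¹)
  have hψ' : ∀ w, ψ' w = ψ (g⁻¹ • w) := fun w => rfl
  refine ⟨F, iF, iFt, σ.trans ρ, ψ',
    ⟨by rw [OffenderSL2.card_cj, c.cardA], by rw [OffenderSL2.card_cj, c.cardB], fun v => ?_,
      fun w => ?_, fun x w => ?_, fun x => ?_, fun x => ?_, fun w => ?_, fun w => ?_⟩⟩
  · obtain ⟨w, rfl⟩ := c.surj v
    exact ⟨g • w, by rw [hψ', inv_smul_smul]⟩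
  · rw [hψ', c.ker, e, mem_fix_cj]
  · rw [hψ', hψ']
    show _ = (ρ (σ x)).1.mulVec _
    rw [← c.equiv, hσ, ← mul_smul, ← mul_smul]
    congr 2
    group
  · rw [mem_cj, ← hσ]; exact c.memA _
  · rw [mem_cj, ← hσ]; exact c.memB _
  · rw [mem_fix_cj, hψ']; exact c.fixA _
  · rw [mem_fix_cj, hψ']; exact c.fixB _

/-- Two exact subgroups whose fixed points span the section split the module. -/
theorem Exact.decomp {U : Type v} [AddCommGroup U] {L : Subgroup (Γ W)}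
    {W₁ : AddSubgroup W} {π : W₁ →+ U} {φ : ↥L →* Γ U} (S : Section L W₁ π φ)
    {A B : Subgroup (Γ W)} (eA : Exact W₁ π φ A) (eB : Exact W₁ π φ B)
    (hsup : fix (img φ A) ⊔ fix (img φ B) = ⊤) : ∀ w : W, ∃ x : W₁, w - x ∈ fix (A ⊔ B) := by
  intro w
  obtain ⟨x₁, hx₁, u, hu, rfl⟩ := AddSubgroup.mem_sup.1 (eA.top.symm ▸ AddSubgroup.mem_top w :
    w ∈ W₁ ⊔ fix A)
  obtain ⟨x₂, hx₂, u', hu', he'⟩ := AddSubgroup.mem_sup.1 (eB.top.symm ▸ AddSubgroup.mem_top u :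
    u ∈ W₁ ⊔ fix B)
  obtain ⟨α, hα, β, hβ, hαβ⟩ := AddSubgroup.mem_sup.1
    (hsup.symm ▸ AddSubgroup.mem_top (π ⟨x₂, hx₂⟩) : π ⟨x₂, hx₂⟩ ∈ fix (img φ A) ⊔ fix (img φ B))
  obtain ⟨a₀, rfl⟩ := S.surj α
  have hb₀ : ((⟨x₂, hx₂⟩ - a₀ : W₁) : W) ∈ fix B := eB.lift _ (by
    rw [map_sub, ← hαβ]; simpa using hβ)
  have ha₀ := eA.lift _ hα
  refine ⟨⟨x₁, hx₁⟩ + a₀, ?_⟩
  rw [fix_sup]
  have e1 : x₁ + u - ((⟨x₁, hx₁⟩ + a₀ : W₁) : W) = u - a₀ := by push_cast; abel
  refine AddSubgroup.mem_inf.2 ⟨e1 ▸ (fix A).sub_mem hu ha₀, ?_⟩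
  rw [e1, ← he']
  have e2 : x₂ + u' - (a₀ : W) = ((⟨x₂, hx₂⟩ - a₀ : W₁) : W) + u' := by push_cast; abel
  exact e2 ▸ (fix B).add_mem hb₀ hu'

/-- Pairs lift from a section. -/
theorem Pair.lift [Finite W] {U : Type v} [AddCommGroup U] {L : Subgroup (Γ W)}
    {W₁ : AddSubgroup W} {π : W₁ →+ U} {φ : ↥L →* Γ U} (S : Section L W₁ π φ)
    {A B : Subgroup (Γ W)} (hA : A ≤ L) (hB : B ≤ L) (eA : Exact W₁ π φ A) (eB : Exact W₁ π φ B)
    (hinj : ∀ g : L, (g : Γ W) ∈ A ⊔ B → φ g = 1 → g = 1)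
    (hp : Pair (img φ A) (img φ B)) : Pair A B := by
  classical
  have hsup := hp.sup_fix
  obtain ⟨F, iF, iFt, ρ, ψ, c⟩ := hp
  have hAB : A ⊔ B ≤ L := sup_le hA hB
  have e : img φ A ⊔ img φ B = img φ (A ⊔ B) := by
    rw [img, img, img, ← Subgroup.map_sup, Subgroup.subgroupOf_sup hA hB]
  -- the group
  let f : ↥(A ⊔ B) →* ↥(img φ A ⊔ img φ B) :=
    (φ.comp (Subgroup.inclusion hAB)).codRestrict _ fun g => by
      rw [e]; exact ⟨⟨g, hAB g.2⟩, g.2, rfl⟩
  have hf : ∀ g : ↥(A ⊔ B), ((f g : ↥(img φ A ⊔ img φ B)) : Γ U) = φ ⟨g, hAB g.2⟩ := fun _ => rfl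
  have hfi : Function.Injective f := (injective_iff_map_eq_one f).2 fun g hg => by
    have := hinj ⟨g, hAB g.2⟩ g.2 (congrArg Subtype.val hg)
    exact Subtype.ext (congrArg (fun y : L => (y : Γ W)) this)
  have hfs : Function.Surjective f := fun x => by
    obtain ⟨g, hg, hgx⟩ := mem_img_iff.1 (e.le x.2)
    exact ⟨⟨g, hg⟩, Subtype.ext hgx⟩
  let ρ' : ↥(A ⊔ B) ≃* SL(2, F) := (MulEquiv.ofBijective f ⟨hfi, hfs⟩).trans ρ
  -- the decomposition
  set Z := fix (A ⊔ B) with hZ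
  have hZπ : ∀ x : W₁, (x : W) ∈ Z → ψ (π x) = 0 := fun x hx =>
    (c.ker _).2 (e ▸ S.map_mem_fix hx)
  have hdec : ∀ w : W, ∃ x : W₁, w - x ∈ Z := Exact.decomp S eA eB hsup
  choose k hk using hdec
  have hkey : ∀ (w : W) (x : W₁), w - x ∈ Z → ψ (π (k w)) = ψ (π x) := fun w x hx => by
    rw [← sub_eq_zero, ← map_sub, ← map_sub]
    refine hZπ _ ?_
    have := sub_mem hx (hk w)
    simpa using this
  let ψ' : W →+ (Fin 2 → F) := AddMonoidHom.mk' (fun w => ψ (π (k w))) fun a b => by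
    rw [hkey (a + b) (k a + k b) (by
      have := add_mem (hk a) (hk b)
      convert this using 1
      push_cast; abel), map_add, map_add]
  have hmem : ∀ (C : Subgroup (Γ W)) (hC : C ≤ A ⊔ B) (eC : Exact W₁ π φ C) (w : W),
      w ∈ fix C ↔ π (k w) ∈ fix (img φ C) := by
    intro C hC eC w
    have hw : w - k w ∈ fix C := fix_mono hC (hk w)
    refine ⟨fun h => S.map_mem_fix ?_, fun h => ?_⟩
    · simpa using sub_mem h hw
    · simpa using add_mem hw (eC.lift _ h)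
  have hcA : Nat.card A = Nat.card (img φ A) := by
    refine Nat.card_congr (Equiv.ofBijective
      (fun a : A => (⟨φ ⟨a, hA a.2⟩, _, a.2, rfl⟩ : img φ A)) ⟨fun a b h => ?_, fun x => ?_⟩)
    · have h1 : φ ((⟨a, hA a.2⟩ : L) * (⟨b, hA b.2⟩ : L)⁻¹) = 1 := by
        rw [map_mul, map_inv, show φ ⟨a, _⟩ = φ ⟨b, _⟩ from congrArg Subtype.val h, mul_inv_cancel]
      exact Subtype.ext (mul_inv_eq_one.1 (congrArg Subtype.val
        (hinj _ (mul_mem (Subgroup.mem_sup_left a.2) (inv_mem (Subgroup.mem_sup_left b.2))) h1)))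
    · obtain ⟨g, hg, hgx⟩ := mem_img_iff.1 x.2
      exact ⟨⟨g, hg⟩, Subtype.ext hgx⟩
  have hcB : Nat.card B = Nat.card (img φ B) := by
    refine Nat.card_congr (Equiv.ofBijective
      (fun a : B => (⟨φ ⟨a, hB a.2⟩, _, a.2, rfl⟩ : img φ B)) ⟨fun a b h => ?_, fun x => ?_⟩)
    · have h1 : φ ((⟨a, hB a.2⟩ : L) * (⟨b, hB b.2⟩ : L)⁻¹) = 1 := by
        rw [map_mul, map_inv, show φ ⟨a, _⟩ = φ ⟨b, _⟩ from congrArg Subtype.val h, mul_inv_cancel]
      exact Subtype.ext (mul_inv_eq_one.1 (congrArg Subtype.val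
        (hinj _ (mul_mem (Subgroup.mem_sup_right a.2) (inv_mem (Subgroup.mem_sup_right b.2))) h1)))
    · obtain ⟨g, hg, hgx⟩ := mem_img_iff.1 x.2
      exact ⟨⟨g, hg⟩, Subtype.ext hgx⟩
  refine ⟨F, iF, iFt, ρ', ψ', ⟨hcA.trans c.cardA, hcB.trans c.cardB, fun v => ?_, fun w => ?_,
    fun g w => ?_, fun g => ?_, fun g => ?_, fun w => (hmem A le_sup_left eA w).trans (c.fixA _),
    fun w => (hmem B le_sup_right eB w).trans (c.fixB _)⟩⟩
  · obtain ⟨u, rfl⟩ := c.surj v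
    obtain ⟨x, rfl⟩ := S.surj u
    exact ⟨(x : W), hkey _ x (by rw [sub_self]; exact zero_mem _)⟩
  · show ψ (π (k w)) = 0 ↔ _
    rw [c.ker, fix_sup, fix_sup]
    exact and_congr (hmem A le_sup_left eA w).symm (hmem B le_sup_right eB w).symm
  · show ψ (π (k ((g : Γ W) • w))) = (ρ (f g)).1.mulVec (ψ (π (k w)))
    rw [hkey _ ⟨(g : Γ W) • (k w : W), S.inv g (hAB g.2) _ (k w).2⟩ ?_, ← c.equiv (f g), hf,
      ← S.equiv ⟨g, hAB g.2⟩ (k w) ⟨(g : Γ W) • (k w : W), S.inv g (hAB g.2) _ (k w).2⟩ rfl]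
    show (g : Γ W) • w - (g : Γ W) • (k w : W) ∈ Z
    rw [← smul_sub, (hk w) g g.2]
    exact hk w
  · refine Iff.trans ⟨fun hg => ⟨⟨g, hAB g.2⟩, hg, rfl⟩, fun hg => ?_⟩ (c.memA (f g))
    obtain ⟨h, hh, he'⟩ := mem_img_iff.1 hg
    exact (congrArg (fun y : ↥(A ⊔ B) => (y : Γ W))
      (hfi (Subtype.ext he' : f ⟨h, Subgroup.mem_sup_left hh⟩ = f g))) ▸ hh
  · refine Iff.trans ⟨fun hg => ⟨⟨g, hAB g.2⟩, hg, rfl⟩, fun hg => ?_⟩ (c.memB (f g))
    obtain ⟨h, hh, he'⟩ := mem_img_iff.1 hg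
    exact (congrArg (fun y : ↥(A ⊔ B) => (y : Γ W))
      (hfi (Subtype.ext he' : f ⟨h, Subgroup.mem_sup_right hh⟩ = f g))) ▸ hh

end CfsgLib.LocalEven.PMinFF
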