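import Mathlib
import Cfsg.Agent.Lib.LocalEven.PMinFF.Pair

/-!
No elementary abelian subgroup of a `p`-minimal linear group is an over-offender.
-/

set_option autoImplicit false

namespace CfsgLib.LocalEven.PMinFF

open CfsgLib.LocalEven.PGV CfsgLib.LocalEven.OffenderSL2 CfsgLib.LLemma

universe v

variable {W : Type v} [AddCommGroup W] [Finite W] {p : ℕ} [Fact p.Prime] {P M T : Subgroup (Γ W)}

omit [Finite W] in
/-- The restriction of an elementary abelian group. -/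
theorem el_img {U : Type v} [AddCommGroup U] {L : Subgroup (Γ W)} (φ : ↥L →* Γ U) {B : Subgroup (Γ W)}
    (hB : Cfsg.IsElementaryAbelian p B) : Cfsg.IsElementaryAbelian p (img φ B) := by
  refine ⟨⟨⟨fun x y => Subtype.ext ?_⟩⟩, fun x hx => ?_⟩
  · obtain ⟨a, ha, e1⟩ := mem_img_iff.1 x.2
    obtain ⟨b, hb, e2⟩ := mem_img_iff.1 y.2
    show (x : Γ U) * y = y * x
    rw [← e1, ← e2, ← map_mul, ← map_mul]
    exact congrArg φ (Subtype.ext (commute_of_mem hB ha hb).eq)
  · obtain ⟨a, ha, rfl⟩ := mem_img_iff.1 hx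
    rw [← map_pow, show a ^ p = 1 from Subtype.ext (by
      rw [Subgroup.coe_pow, Subgroup.coe_one]; exact hB.2 _ ha), map_one]

namespace Dat

variable (d : Dat p P M T)
include d

/-- The setting of a generating minimal offender. -/
theorem setup {A : Subgroup (Γ W)} (hAT : A ≤ T) (el : Cfsg.IsElementaryAbelian p A)
    (off : Nat.card W ≤ mu A) (strict : ∀ B ≤ A, B ≠ ⊥ → B ≠ A → mu B < mu A)
    (gen : ∀ x ∈ P, x ∉ M → A ⊔ cj x A = P) : Setup p P M T A where
  hp := d.hp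
  AT := hAT
  TM := d.TM
  MP := d.MP
  ne := d.good.lt.ne
  el := el
  hT := d.hT
  syl R hR hRp := by
    obtain ⟨m, hm, hmT⟩ := d.conj_into_M hR hRp
    refine ⟨m⁻¹, M.inv_mem hm, fun r hr => mem_cj.2 (hmT ?_)⟩
    rw [mem_cj]
    simpa [mul_assoc] using hr
  off := off
  strict := strict
  vec := by
    obtain ⟨v, hv, hvP⟩ := d.exists_vec
    exact ⟨v, hv, hvP, fun g hg e => d.stab_le hv hvP hg e⟩
  gen := gen

end Dat

omit [Fact p.Prime] in
theorem setup_mu {A : Subgroup (Γ W)} [Fact p.Prime] (h : Setup p P M T A) : mu A = Nat.card W := by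
  obtain ⟨k, hk, hkM⟩ := h.exists_outside
  obtain ⟨h1, h2⟩ := h.cards hk hkM
  have e := addCard_mul (fix A) (fix (cj k A))
  rw [h2, h.fix_inf hk hkM, AddSubgroup.card_top, card_fix_cj] at e
  have h3 : 0 < Nat.card (fix P) := Nat.card_pos
  refine Nat.eq_of_mul_eq_mul_right h3 ?_
  rw [← e, mu]
  calc Nat.card A * Nat.card (fix A) * Nat.card (fix P)
      = (Nat.card A * Nat.card (fix P)) * Nat.card (fix A) := by ring
    _ = Nat.card (fix A) * Nat.card (fix A) := by rw [← h1]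

namespace Loc

variable {A L L₀ T₁ : Subgroup (Γ W)} {y : Γ W}

omit [Finite W] [Fact p.Prime] in
theorem smul_mem_fix_normal {Q : Subgroup (Γ W)} {g : Γ W}
    (hg : g ∈ Subgroup.normalizer (Q : Set (Γ W))) {w : W} (hw : w ∈ fix Q) : g • w ∈ fix Q :=
  fun q hq => by
  have h := hw _ ((Subgroup.mem_normalizer_iff''.1 hg q).1 hq)
  rw [mul_smul, mul_smul, inv_smul_eq_iff] at h
  exact h

/-- The action of the local subgroup on the fixed points of its core. -/
theorem exists_rep (d : Dat p P M T) (l : Loc p P M T A L L₀ T₁ y) :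
    ∃ φ : ↥L →* Γ (fix (Cfsg.pCoreOf p L)),
      Section L (fix (Cfsg.pCoreOf p L)) (AddMonoidHom.id _) φ ∧
      Dat p φ.range (img φ L₀) (img φ T₁) ∧
      (∀ g : L, φ g = 1 ↔ ∀ w ∈ fix (Cfsg.pCoreOf p L), (g : Γ W) • w = w) := by
  set Q := Cfsg.pCoreOf p L with hQ
  have hinv : ∀ g ∈ L, ∀ w ∈ fix Q, g • w ∈ fix Q := fun g hg w hw =>
    smul_mem_fix_normal (le_normalizer_pCoreOf L hg) hw
  have hL : L ≤ stab (fix Q) := fun g hg => mem_stab (hinv g hg)
  let φ : ↥L →* Γ (fix Q) := (res (fix Q)).comp (Subgroup.inclusion hL)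
  have hφ : ∀ (g : L) (w : fix Q), ((φ g • w : fix Q) : W) = (g : Γ W) • (w : W) := fun g w => rfl
  have hk : ∀ g : L, φ g = 1 ↔ ∀ w ∈ fix Q, (g : Γ W) • w = w := fun g =>
    ⟨fun h w hw => by rw [← hφ g ⟨w, hw⟩, h, one_smul],
      fun h => ext_smul fun w => Subtype.ext (by rw [hφ, one_smul]; exact h w w.2)⟩
  have hS : Section L (fix Q) (AddMonoidHom.id _) φ :=
    ⟨Function.surjective_id, hinv, fun g w w' e => Subtype.ext (e.trans (hφ g w).symm)⟩
  refine ⟨φ, hS, dat_img φ l.good (fun w => Subtype.ext (d.hp w.1))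
    (fun g hg => (hk g).2 fun w hw => hw _ hg) (fun g hg => l.vec_le d ⟨g.2, fun u hu => ?_⟩), hk⟩
  have huQ : u ∈ fix Q := fix_mono l.QT hu
  have := hg ⟨u, huQ⟩ (S_fix hS hu huQ)
  exact (hφ g ⟨u, huQ⟩).symm.trans (congrArg Subtype.val this)
where
  S_fix {Q : Subgroup (Γ W)} {L T₁ : Subgroup (Γ W)} {φ : ↥L →* Γ (fix Q)}
    (hS : Section L (fix Q) (AddMonoidHom.id _) φ) {u : W} (hu : u ∈ fix T₁) (huQ : u ∈ fix Q) :
    (⟨u, huQ⟩ : fix Q) ∈ fix (img φ T₁) := hS.map_mem_fix (x := ⟨u, huQ⟩) hu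

/-- A subgroup of `T₁` fixing the fixed points of the core lies in the core. -/
theorem le_core_of_fix (d : Dat p P M T) (l : Loc p P M T A L L₀ T₁ y) {B : Subgroup (Γ W)}
    (hB : B ≤ T₁) (hfix : fix (Cfsg.pCoreOf p L) ≤ fix B) : B ≤ Cfsg.pCoreOf p L := by
  set N := L ⊓ fixer (fix (Cfsg.pCoreOf p L)) with hN
  have h1 : N ≤ L₀ := fun g hg => l.vec_le d ⟨hg.1, fun u hu => hg.2 u (fix_mono l.QT hu)⟩
  have h2 : L ≤ Subgroup.normalizer (N : Set (Γ W)) := by
    refine Subgroup.le_normalizer_iff.2 fun x hx g hg => ⟨L.mul_mem (L.mul_mem hx hg.1) (L.inv_mem hx),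
      fun u hu => ?_⟩
    rw [mul_smul, mul_smul,
      hg.2 _ (smul_mem_fix_normal (le_normalizer_pCoreOf L (L.inv_mem hx)) hu), smul_inv_smul]
  exact fun b hb => good_inf_le_core l.good h1 h2
    ⟨⟨good_le l.good (hB hb), le_fix_iff.1 hfix hb⟩, hB hb⟩

end Loc

/-- The measure is at most that of the kernel on the fixed points of the core. -/
theorem mu_le_kernel {L : Subgroup (Γ W)} {W' : AddSubgroup W} {φ : ↥L →* Γ W'}
    (hS : Section L W' (AddMonoidHom.id _) φ)
    (hk : ∀ g : L, φ g = 1 ↔ ∀ w ∈ W', (g : Γ W) • w = w) {B : Subgroup (Γ W)} (hBL : B ≤ L)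
    (hb : mu (img φ B) ≤ Nat.card W') : mu B ≤ mu (B ⊓ fixer W') := by
  set C := B ⊓ fixer W' with hC
  let ψ : B →* Γ W' := φ.comp (Subgroup.inclusion hBL)
  have hψr : ψ.range = img φ B := by
    ext x
    rw [mem_img_iff]
    exact ⟨fun ⟨b, hb⟩ => ⟨⟨b, hBL b.2⟩, b.2, hb⟩, fun ⟨g, hg, e⟩ => ⟨⟨g, hg⟩, e⟩⟩
  have hψk : ψ.ker = C.subgroupOf B := by
    ext b
    exact (hk ⟨b, hBL b.2⟩).trans ⟨fun h => ⟨b.2, h⟩, fun h => h.2⟩
  have hcard : Nat.card B = Nat.card (img φ B) * Nat.card C := by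
    rw [Subgroup.card_eq_card_quotient_mul_card_subgroup ψ.ker,
      Nat.card_congr (QuotientGroup.quotientKerEquivRange ψ).toEquiv, hψr, hψk,
      Nat.card_congr (Subgroup.subgroupOfEquivOfLe (inf_le_left : C ≤ B)).toEquiv]
  have hfix : Nat.card (fix B) * Nat.card W' ≤ Nat.card (fix C) * Nat.card (fix (img φ B)) := by
    rw [addCard_mul]
    refine Nat.mul_le_mul (AddSubgroup.card_le_of_le (sup_le (fix_mono inf_le_left)
      (le_fix_iff.2 inf_le_right))) ?_
    refine Nat.card_le_card_of_injective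
      (fun x : ↥(fix B ⊓ W') => (⟨⟨x.1, x.2.2⟩, hS.map_mem_fix (x := ⟨x.1, x.2.2⟩) x.2.1⟩ :
        fix (img φ B))) fun a b e => Subtype.ext ?_
    exact congrArg (fun z : fix (img φ B) => ((z : W') : W)) e
  have h1 : mu B * Nat.card W' ≤ mu C * Nat.card W' := by
    calc mu B * Nat.card W'
        = Nat.card (img φ B) * Nat.card C * (Nat.card (fix B) * Nat.card W') := by
          rw [mu, hcard]; ring
      _ ≤ Nat.card (img φ B) * Nat.card C * (Nat.card (fix C) * Nat.card (fix (img φ B))) :=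
          Nat.mul_le_mul_left _ hfix
      _ = mu C * mu (img φ B) := by rw [mu, mu]; ring
      _ ≤ mu C * Nat.card W' := Nat.mul_le_mul_left _ hb
  exact Nat.le_of_mul_le_mul_right h1 Nat.card_pos

theorem bound_aux : ∀ (n : ℕ) {W : Type v} [AddCommGroup W] [Finite W] {P M T : Subgroup (Γ W)},
    Nat.card P ≤ n → Dat p P M T → ∀ B : Subgroup (Γ W), B ≤ P → Cfsg.IsElementaryAbelian p B →
      mu B ≤ Nat.card W := by
  intro n
  induction n with
  | zero => intro W _ _ P M T hc; exact absurd hc (Nat.card_pos (α := P)).ne'.bot_lt.not_ge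
  | succ n ih =>
    intro W _ _ P M T hc d B₀ hB₀P hB₀el
    by_contra hover
    push Not at hover
    let S := {B : Subgroup (Γ W) | B ≤ T ∧ Cfsg.IsElementaryAbelian p B}
    obtain ⟨y₀, hy₀, hy₀T⟩ := d.conj_into hB₀P (el_isPGroup hB₀el)
    obtain ⟨B₁, hB₁, hmax⟩ := Set.exists_max_image S mu (Set.toFinite _) ⟨_, hy₀T, el_cj hB₀el⟩
    obtain ⟨B, ⟨hB, hBmu⟩, hmin⟩ := Set.exists_min_image {B | B ∈ S ∧ mu B = mu B₁}
      (fun B => Nat.card B) (Set.toFinite _) ⟨B₁, hB₁, rfl⟩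
    have hover' : Nat.card W < mu B := by
      rw [hBmu]
      exact hover.trans_le ((mu_cj y₀ B₀).symm.le.trans (hmax _ ⟨hy₀T, el_cj hB₀el⟩))
    have hstrict : ∀ C ≤ B, C ≠ B → mu C < mu B := by
      intro C hC hne
      have hCS : C ∈ S := ⟨hC.trans hB.1, el_mono hB.2 hC⟩
      refine lt_of_le_of_ne (hBmu.symm ▸ hmax C hCS) fun e => hne ?_
      exact Subgroup.eq_of_le_of_card_ge hC (hmin C ⟨hCS, e.trans hBmu⟩)
    have hBne : B ≠ ⊥ := fun e => by rw [e, mu_bot] at hover'; exact lt_irrefl _ hover'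
    rcases d.split hB.1 hBne with hgen | ⟨L, L₀, T₁, y, l⟩
    · have h := d.setup hB.1 hB.2 hover'.le (fun C hC _ hne => hstrict C hC hne) hgen
      rw [setup_mu h] at hover'
      exact lt_irrefl _ hover'
    obtain ⟨φ, hS, hd, hk⟩ := l.exists_rep d
    let W' := fix (Cfsg.pCoreOf p L)
    set C := B ⊓ fixer W' with hC
    have hCB : C ≠ B := fun e => l.notA (l.le_core_of_fix d l.AT (le_fix_iff.2 (e ▸ inf_le_right)))
    have hBL : B ≤ L := l.AT.trans (good_le l.good)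
    have hrange : Nat.card φ.range ≤ n := by
      have h1 : Nat.card φ.range ≤ Nat.card L :=
        Nat.card_le_card_of_surjective _ φ.rangeRestrict_surjective
      have := l.card_lt
      omega
    have hb := ih hrange hd (img φ B) (Subgroup.map_le_range _ _) (el_img φ hB.2)
    have h1 := mu_le_kernel hS hk hBL hb
    exact (hstrict C inf_le_left hCB).not_ge h1

/-- There is no over-offender. -/
theorem Dat.bound (d : Dat p P M T) {B : Subgroup (Γ W)} (hB : B ≤ P)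
    (hel : Cfsg.IsElementaryAbelian p B) : mu B ≤ Nat.card W :=
  bound_aux _ le_rfl d B hB hel

end CfsgLib.LocalEven.PMinFF
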