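import Mathlib
import Cfsg.Agent.Lib.LocalEven.PMinFF.Bound

/-!
Minimal offenders of a `p`-minimal linear group: each has a partner generating `SL₂` with it, and two
of them in a common `p`-group commute.
-/

set_option autoImplicit false

namespace CfsgLib.LocalEven.PMinFF

open CfsgLib.LocalEven.PGV CfsgLib.LocalEven.OffenderSL2 CfsgLib.LLemma

universe v

variable {W : Type v} [AddCommGroup W] [Finite W] {p : ℕ} [Fact p.Prime] {P M T : Subgroup (Γ W)}

/-- Elementwise commutation. -/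
def Comm (A B : Subgroup (Γ W)) : Prop := ∀ a ∈ A, ∀ b ∈ B, Commute a b

omit [Finite W] in
theorem Comm.symm {A B : Subgroup (Γ W)} (h : Comm A B) : Comm B A :=
  fun b hb a ha => (h a ha b hb).symm

omit [Finite W] in
theorem el_sup {A B : Subgroup (Γ W)} (hA : Cfsg.IsElementaryAbelian p A)
    (hB : Cfsg.IsElementaryAbelian p B) (h : Comm A B) : Cfsg.IsElementaryAbelian p (A ⊔ B) := by
  have h1 : A ⊔ B ≤ Subgroup.centralizer (A : Set (Γ W)) := sup_le
    (fun a ha => Subgroup.mem_centralizer_iff.2 fun c hc => (commute_of_mem hA hc ha).eq)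
    (fun b hb => Subgroup.mem_centralizer_iff.2 fun c hc => (h c hc b hb).eq)
  have h2 : A ⊔ B ≤ Subgroup.centralizer (B : Set (Γ W)) := sup_le
    (fun a ha => Subgroup.mem_centralizer_iff.2 fun c hc => (h a ha c hc).symm.eq)
    (fun b hb => Subgroup.mem_centralizer_iff.2 fun c hc => (commute_of_mem hB hc hb).eq)
  have hc : ∀ x ∈ A ⊔ B, ∀ y ∈ A ⊔ B, Commute x y := by
    intro x hx y hy
    have h3 : A ⊔ B ≤ Subgroup.centralizer ({x} : Set (Γ W)) := sup_le
      (fun a ha => Subgroup.mem_centralizer_singleton_iff.2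
        (Subgroup.mem_centralizer_iff.1 (h1 hx) a ha))
      (fun b hb => Subgroup.mem_centralizer_singleton_iff.2
        (Subgroup.mem_centralizer_iff.1 (h2 hx) b hb))
    exact (Subgroup.mem_centralizer_singleton_iff.1 (h3 hy)).symm
  let S : Subgroup (Γ W) :=
    { carrier := {x | x ∈ A ⊔ B ∧ x ^ p = 1}
      one_mem' := ⟨one_mem _, one_pow p⟩
      mul_mem' := fun {a b} ha hb => ⟨mul_mem ha.1 hb.1, by
        rw [(hc a ha.1 b hb.1).mul_pow, ha.2, hb.2, one_mul]⟩
      inv_mem' := fun {a} ha => ⟨inv_mem ha.1, by rw [inv_pow, ha.2, inv_one]⟩ }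
  have hS : A ⊔ B ≤ S := sup_le (fun a ha => ⟨Subgroup.mem_sup_left ha, hA.2 a ha⟩)
    (fun b hb => ⟨Subgroup.mem_sup_right hb, hB.2 b hb⟩)
  exact ⟨⟨⟨fun x y => Subtype.ext (hc x x.2 y y.2).eq⟩⟩, fun x hx => (hS hx).2⟩

/-- A minimal offender. -/
structure Mem (p : ℕ) (P A : Subgroup (Γ W)) : Prop where
  le : A ≤ P
  el : Cfsg.IsElementaryAbelian p A
  ne : A ≠ ⊥
  eq : mu A = Nat.card W
  strict : ∀ B ≤ A, B ≠ ⊥ → B ≠ A → mu B < Nat.card W

omit [Fact p.Prime] in
theorem exists_mem {A : Subgroup (Γ W)} [Fact p.Prime] (d : Dat p P M T) (hA : A ≤ P)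
    (el : Cfsg.IsElementaryAbelian p A) (ne : A ≠ ⊥) (off : Nat.card W ≤ mu A) :
    ∃ B ≤ A, Mem p P B := by
  obtain ⟨B, ⟨hBA, hBne, hBmu⟩, hmin⟩ := Set.exists_min_image
    {B : Subgroup (Γ W) | B ≤ A ∧ B ≠ ⊥ ∧ mu B = Nat.card W} (fun B => Nat.card B) (Set.toFinite _)
    ⟨A, le_rfl, ne, le_antisymm (d.bound hA el) off⟩
  refine ⟨B, hBA, hBA.trans hA, el_mono el hBA, hBne, hBmu, fun C hC hC1 hCB => ?_⟩
  refine lt_of_le_of_ne (d.bound ((hC.trans hBA).trans hA) (el_mono el (hC.trans hBA))) fun e => hCB ?_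
  exact Subgroup.eq_of_le_of_card_ge hC (hmin C ⟨hC.trans hBA, hC1, e⟩)

namespace Mem

variable {A : Subgroup (Γ W)} (m : Mem p P A)
include m

omit [Fact p.Prime] in
theorem isP : IsPGroup p ↥A := el_isPGroup m.el

omit [Fact p.Prime] in
theorem conj {g : Γ W} (hg : g ∈ P) : Mem p P (cj g A) := by
  refine ⟨cj_le hg m.le, el_cj m.el, fun e => m.ne ?_, (mu_cj g A).trans m.eq, fun B hB h1 h2 => ?_⟩
  · rwa [cj, Subgroup.map_eq_bot_iff_of_injective _ (MulAut.conj g).injective] at e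
  · have hle : cj g⁻¹ B ≤ A := fun x hx => by
      have := mem_cj.1 (hB (mem_cj.1 hx))
      rwa [show g⁻¹ * (g⁻¹⁻¹ * x * g⁻¹) * g = x by group] at this
    have hback : cj g (cj g⁻¹ B) = B := by rw [← cj_mul, mul_inv_cancel, cj_one]
    rw [← mu_cj g⁻¹ B]
    refine m.strict _ hle (fun e => h1 ?_) fun e => h2 ?_
    · rw [← hback, e, cj, Subgroup.map_bot]
    · rw [← hback, e]

theorem best : Best A := fun B hB => by
  show mu B ≤ mu A
  rw [m.eq]
  by_cases h1 : B = ⊥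
  · rw [h1, mu_bot]
  by_cases h2 : B = A
  · rw [h2, m.eq]
  exact (m.strict B hB h1 h2).le

theorem quadratic (hp : ∀ w : W, p • w = 0) {a b : Γ W} (ha : a ∈ A) (hb : b ∈ A) (w : W) :
    b • (a • w - w) = a • w - w := by
  obtain ⟨e, -, hne⟩ := quad_spec hp m.el m.best m.ne
  have hq : quad A = A := by
    by_contra hne'
    exact (m.strict _ (quad_le A) hne hne').ne (e.trans m.eq)
  exact quad_fixes (hq.symm ▸ hb) ha (com_mem a w)

theorem sub_mem_fix (hp : ∀ w : W, p • w = 0) {a : Γ W} (ha : a ∈ A) (w : W) : a • w - w ∈ fix A :=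
  fun _ hb => m.quadratic hp ha hb w

theorem mul_sub (hp : ∀ w : W, p • w = 0) {a b : Γ W} (ha : a ∈ A) (hb : b ∈ A) (w : W) :
    (a * b) • w - w = (a • w - w) + (b • w - w) := by
  have e := m.sub_mem_fix hp hb w a ha
  rw [smul_sub, sub_eq_iff_eq_add] at e
  rw [mul_smul, e]
  abel

omit [Fact p.Prime] in
theorem exists_ne_one : ∃ a ∈ A, a ≠ 1 :=
  (Subgroup.bot_or_exists_ne_one A).resolve_left m.ne

end Mem

namespace Section

variable {U : Type v} [AddCommGroup U] {L : Subgroup (Γ W)} {W₁ : AddSubgroup W}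
  {π : W₁ →+ U} {φ : ↥L →* Γ U} (S : Section L W₁ π φ)
include S

omit [Fact p.Prime] in
/-- Equality for an exact subgroup. -/
theorem card_eq {B : Subgroup (Γ W)} (e : Exact W₁ π φ B) :
    Nat.card (fix B) * Nat.card U = Nat.card W * Nat.card (fix (img φ B)) := by
  haveI : Finite U := Finite.of_surjective π S.surj
  refine le_antisymm (S.card_bound B).1 ?_
  have h0 := addCard_mul (fix B) W₁
  rw [sup_comm, e.top, AddSubgroup.card_top] at h0
  have hE : ((fix (img φ B)).comap π) = (fix B).addSubgroupOf W₁ :=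
    le_antisymm (fun x hx => e.lift x hx) fun x hx => S.map_mem_fix hx
  have h1 := card_comap_surj S.surj (fix (img φ B))
  rw [hE, ← AddSubgroup.inf_addSubgroupOf_right,
    Nat.card_congr (AddSubgroup.addSubgroupOfEquivOfLe (inf_le_right : fix B ⊓ W₁ ≤ W₁)).toEquiv] at h1
  have hW₁ : Nat.card W₁ = Nat.card U * Nat.card π.ker := by
    rw [AddSubgroup.card_eq_card_quotient_mul_card_addSubgroup π.ker,
      Nat.card_congr (QuotientAddGroup.quotientKerEquivOfSurjective π S.surj).toEquiv]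
  refine Nat.le_of_mul_le_mul_right (le_of_eq ?_) (Nat.card_pos (α := π.ker))
  calc Nat.card W * Nat.card (fix (img φ B)) * Nat.card π.ker
      = Nat.card W * Nat.card ↥(fix B ⊓ W₁) := by rw [h1]; ring
    _ = Nat.card (fix B) * Nat.card W₁ := h0.symm
    _ = _ := by rw [hW₁]; ring

omit [Fact p.Prime] in
/-- An offender injective on a section without over-offenders is exact. -/
theorem exact_of_offender {A : Subgroup (Γ W)} (hA : Nat.card W ≤ mu A)
    (hc : Nat.card (img φ A) = Nat.card A) (hb : mu (img φ A) ≤ Nat.card U) : Exact W₁ π φ A := by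
  refine (S.card_bound A).2 (Nat.le_of_mul_le_mul_left ?_ (Nat.card_pos (α := A)))
  calc Nat.card A * (Nat.card W * Nat.card (fix (img φ A)))
      = Nat.card W * mu (img φ A) := by rw [mu, hc]; ring
    _ ≤ Nat.card W * Nat.card U := Nat.mul_le_mul_left _ hb
    _ ≤ mu A * Nat.card U := Nat.mul_le_mul_right _ hA
    _ = _ := by rw [mu]; ring

omit [Fact p.Prime] in
/-- A subgroup injective on a section keeps its order. -/
theorem card_img {A : Subgroup (Γ W)} (hAL : A ≤ L)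
    (hinj : ∀ g : L, (g : Γ W) ∈ A → φ g = 1 → g = 1) : Nat.card (img φ A) = Nat.card A := by
  refine (Nat.card_congr (Equiv.ofBijective
    (fun a : A => (⟨φ ⟨a, hAL a.2⟩, _, a.2, rfl⟩ : img φ A)) ⟨fun a b h => ?_, fun x => ?_⟩)).symm
  · have h1 : φ ((⟨a, hAL a.2⟩ : L) * (⟨b, hAL b.2⟩ : L)⁻¹) = 1 := by
      rw [map_mul, map_inv, show φ ⟨a, _⟩ = φ ⟨b, _⟩ from congrArg Subtype.val h, mul_inv_cancel]
    exact Subtype.ext (mul_inv_eq_one.1 (congrArg (fun y : L => (y : Γ W))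
      (hinj _ (mul_mem a.2 (inv_mem b.2)) h1)))
  · obtain ⟨g, hg, hgx⟩ := mem_img_iff.1 x.2
    exact ⟨⟨g, hg⟩, Subtype.ext hgx⟩

omit [Fact p.Prime] in
/-- A minimal offender injective on a section without over-offenders is a minimal offender there. -/
theorem mem_img [Fact p.Prime] {A : Subgroup (Γ W)} (m : Mem p P A) (hAL : A ≤ L)
    (hinj : ∀ g : L, (g : Γ W) ∈ A → φ g = 1 → g = 1)
    (hb : mu (img φ A) ≤ Nat.card U)
    (hsub : ∀ g : L, (g : Γ W) ∈ A → g ≠ 1 → ∀ x : W₁, φ g • π x = π x → (g : Γ W) • (x : W) = x) :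
    Exact W₁ π φ A ∧ Mem p φ.range (img φ A) ∧ Nat.card (img φ A) = Nat.card A := by
  haveI : Finite U := Finite.of_surjective π S.surj
  have hcard : ∀ B ≤ A, Nat.card (img φ B) = Nat.card B := fun B hB => by
    refine (Nat.card_congr (Equiv.ofBijective
      (fun a : B => (⟨φ ⟨a, hAL (hB a.2)⟩, _, a.2, rfl⟩ : img φ B)) ⟨fun a b h => ?_, fun x => ?_⟩)).symm
    · have h1 : φ ((⟨a, hAL (hB a.2)⟩ : L) * (⟨b, hAL (hB b.2)⟩ : L)⁻¹) = 1 := by
        rw [map_mul, map_inv, show φ ⟨a, _⟩ = φ ⟨b, _⟩ from congrArg Subtype.val h, mul_inv_cancel]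
      exact Subtype.ext (mul_inv_eq_one.1 (congrArg (fun y : L => (y : Γ W))
        (hinj _ (mul_mem (hB a.2) (inv_mem (hB b.2))) h1)))
    · obtain ⟨g, hg, hgx⟩ := mem_img_iff.1 x.2
      exact ⟨⟨g, hg⟩, Subtype.ext hgx⟩
  obtain ⟨h1, h2⟩ := S.card_bound A
  have hA0 : 0 < Nat.card A := Nat.card_pos
  have hge : Nat.card W * Nat.card (fix (img φ A)) ≤ Nat.card (fix A) * Nat.card U := by
    refine Nat.le_of_mul_le_mul_left ?_ hA0
    calc Nat.card A * (Nat.card W * Nat.card (fix (img φ A)))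
        = Nat.card W * mu (img φ A) := by rw [mu, hcard A le_rfl]; ring
      _ ≤ Nat.card W * Nat.card U := Nat.mul_le_mul_left _ hb
      _ = _ := by rw [← m.eq, mu]; ring
  have e := h2 hge
  have hmu : ∀ B ≤ A, Exact W₁ π φ B → mu (img φ B) * Nat.card W = mu B * Nat.card U := by
    intro B hB eB
    rw [mu, mu, hcard B hB]
    calc Nat.card B * Nat.card (fix (img φ B)) * Nat.card W
        = Nat.card B * (Nat.card W * Nat.card (fix (img φ B))) := by ring
      _ = _ := by rw [← S.card_eq eB]; ring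
  have hW0 : 0 < Nat.card W := Nat.card_pos
  refine ⟨e, ⟨Subgroup.map_le_range _ _, el_img φ m.el, fun h => m.ne ?_, ?_, fun C hC h1 h2 => ?_⟩,
    hcard A le_rfl⟩
  · rw [← Subgroup.card_eq_one, ← hcard A le_rfl, Subgroup.card_eq_one]; exact h
  · refine Nat.eq_of_mul_eq_mul_right hW0 ?_
    rw [hmu A le_rfl e, m.eq]; ring
  · set B := A ⊓ (C.comap φ).map L.subtype with hB
    have hBC : img φ B = C := by
      refine le_antisymm ?_ fun c hc => ?_
      · rintro _ ⟨g, hg, rfl⟩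
        obtain ⟨g', hg', e'⟩ := hg.2
        exact (Subtype.ext e' : g' = g) ▸ hg'
      · obtain ⟨g, hg, rfl⟩ := mem_img_iff.1 (hC hc)
        exact ⟨g, ⟨hg, g, hc, rfl⟩, rfl⟩
    have eB : Exact W₁ π φ B := by
      refine ⟨eq_top_iff.2 (e.top.ge.trans (sup_le_sup_left (fix_mono inf_le_left) _)), fun x hx b hb => ?_⟩
      by_cases h : b = 1
      · rw [h, one_smul]
      exact hsub ⟨b, hAL hb.1⟩ hb.1 (fun e' => h (congrArg Subtype.val e')) x
        (hx _ ⟨_, hb, rfl⟩)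
    have hB1 : B ≠ ⊥ := fun e' => h1 (by
      rw [← hBC, e', img, Subgroup.bot_subgroupOf, Subgroup.map_bot])
    have hBA : B ≠ A := fun e' => h2 (by rw [← hBC, e'])
    have h := m.strict B inf_le_left hB1 hBA
    rw [← hBC]
    refine lt_of_mul_lt_mul_right ?_ hW0.le
    rw [hmu B inf_le_left eB, mul_comm (Nat.card U)]
    exact Nat.mul_lt_mul_of_pos_right h Nat.card_pos

end Section

namespace Loc

variable {A₀ L L₀ T₁ : Subgroup (Γ W)} {y : Γ W}

/-- Members of `T₁` stay members on the fixed points of the core. -/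
theorem mem_img (d : Dat p P M T) (l : Loc p P M T A₀ L L₀ T₁ y)
    {φ : ↥L →* Γ (fix (Cfsg.pCoreOf p L))}
    (hS : Section L (fix (Cfsg.pCoreOf p L)) (AddMonoidHom.id _) φ)
    (hd : Dat p φ.range (img φ L₀) (img φ T₁))
    (hk : ∀ g : L, φ g = 1 ↔ ∀ w ∈ fix (Cfsg.pCoreOf p L), (g : Γ W) • w = w)
    {A : Subgroup (Γ W)} (m : Mem p P A) (hA : A ≤ T₁) (hAQ : ¬ A ≤ Cfsg.pCoreOf p L) :
    Exact (fix (Cfsg.pCoreOf p L)) (AddMonoidHom.id _) φ A ∧ Mem p φ.range (img φ A) ∧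
      Nat.card (img φ A) = Nat.card A ∧ (∀ g : L, (g : Γ W) ∈ A → φ g = 1 → g = 1) := by
  have hAL : A ≤ L := hA.trans (good_le l.good)
  have hb := hd.bound (Subgroup.map_le_range _ _) (el_img φ m.el : Cfsg.IsElementaryAbelian p (img φ A))
  have h1 := mu_le_kernel hS hk hAL hb
  have hC : A ⊓ fixer (fix (Cfsg.pCoreOf p L)) = ⊥ := by
    by_contra hne
    refine (m.strict _ inf_le_left hne fun e => hAQ (l.le_core_of_fix d hA ?_)).not_ge (m.eq ▸ h1)
    exact le_fix_iff.2 (e ▸ inf_le_right)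
  have hinj : ∀ g : L, (g : Γ W) ∈ A → φ g = 1 → g = 1 := fun g hg h => by
    have : (g : Γ W) ∈ A ⊓ fixer (fix (Cfsg.pCoreOf p L)) := ⟨hg, (hk g).1 h⟩
    rw [hC, Subgroup.mem_bot] at this
    exact Subtype.ext this
  have := hS.mem_img m hAL hinj hb fun g _ _ x hx => by
    exact (congrArg Subtype.val ((hS.equiv g x ⟨(g : Γ W) • (x : W), hS.inv g g.2 x x.2⟩ rfl).trans hx) :)
  exact ⟨this.1, this.2.1, this.2.2, hinj⟩

end Loc

omit [Finite W] in
theorem img_cj {U : Type v} [AddCommGroup U] {L : Subgroup (Γ W)} (φ : ↥L →* Γ U)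
    {A : Subgroup (Γ W)} (x : L) : img φ (cj (x : Γ W) A) = cj (φ x) (img φ A) := by
  ext z
  rw [mem_cj, mem_img_iff, mem_img_iff]
  constructor
  · rintro ⟨g, hg, rfl⟩
    exact ⟨x⁻¹ * g * x, mem_cj.1 hg, by rw [map_mul, map_mul, map_inv]⟩
  · rintro ⟨g, hg, e⟩
    refine ⟨x * g * x⁻¹, conj_mem_cj hg, ?_⟩
    rw [map_mul, map_mul, map_inv, e]
    group

omit [Finite W] [Fact p.Prime] in
/-- Exactness is invariant under conjugation. -/
theorem Exact.conj {U : Type v} [AddCommGroup U] {L : Subgroup (Γ W)} {W₁ : AddSubgroup W}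
    {π : W₁ →+ U} {φ : ↥L →* Γ U} (S : Section L W₁ π φ) {A : Subgroup (Γ W)}
    (e : Exact W₁ π φ A) (x : L) : Exact W₁ π φ (cj (x : Γ W) A) := by
  refine ⟨eq_top_iff.2 fun w _ => ?_, fun u hu => ?_⟩
  · obtain ⟨a, ha, b, hb, hab⟩ := AddSubgroup.mem_sup.1
      (e.top.symm ▸ AddSubgroup.mem_top ((x : Γ W)⁻¹ • w) : (x : Γ W)⁻¹ • w ∈ W₁ ⊔ fix A)
    refine AddSubgroup.mem_sup.2 ⟨(x : Γ W) • a, S.inv x x.2 a ha, (x : Γ W) • b, smul_mem_fix_cj hb, ?_⟩
    rw [← smul_add, hab, smul_inv_smul]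
  · rw [mem_fix_cj]
    let u' : W₁ := ⟨(x : Γ W)⁻¹ • (u : W), S.inv _ (L.inv_mem x.2) u u.2⟩
    refine e.lift u' ?_
    rw [S.equiv x⁻¹ u u' rfl, map_inv]
    rw [img_cj, mem_fix_cj] at hu
    exact hu

/-- The base of the local generation passes to the image. -/
theorem Loc.gen_img {A L L₀ T₁ : Subgroup (Γ W)} {y : Γ W} (l : Loc p P M T A L L₀ T₁ y)
    {U : Type v} [AddCommGroup U] (φ : ↥L →* Γ U)
    (hQ : ∀ g : L, (g : Γ W) ∈ Cfsg.pCoreOf p L → φ g = 1) {x : L} (hx : (x : Γ W) ∉ L₀) :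
    img φ A ⊔ cj (φ x) (img φ A) = φ.range := by
  refine le_antisymm (sup_le (Subgroup.map_le_range _ _) (cj_le ⟨x, rfl⟩ (Subgroup.map_le_range _ _))) ?_
  rintro _ ⟨g, rfl⟩
  set S := img φ A ⊔ cj (φ x) (img φ A)
  have hAL : A ≤ L := l.AT.trans (good_le l.good)
  have hle : L ≤ (S.comap φ).map L.subtype := by
    refine (l.gen x x.2 hx).ge.trans (sup_le (sup_le ?_ ?_) ?_)
    · exact fun a ha => ⟨⟨a, hAL ha⟩, Subgroup.mem_sup_left ⟨⟨a, hAL ha⟩, ha, rfl⟩, rfl⟩
    · intro a ha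
      have haL : a ∈ L := cj_le x.2 hAL ha
      refine ⟨⟨a, haL⟩, Subgroup.mem_sup_right ?_, rfl⟩
      rw [← img_cj]
      exact ⟨⟨a, haL⟩, ha, rfl⟩
    · intro a ha
      have haL : a ∈ L := pCoreOf_le L ha
      exact ⟨⟨a, haL⟩, by show φ ⟨a, haL⟩ ∈ S; rw [hQ ⟨a, haL⟩ ha]; exact one_mem _, rfl⟩
  obtain ⟨g', hg', e⟩ := hle g.2
  exact (Subtype.ext e : g' = g) ▸ hg'

namespace Dat

variable (d : Dat p P M T)
include d

/-- A minimal offender has a partner. -/
theorem exists_pair {A : Subgroup (Γ W)} (m : Mem p P A) : ∃ x ∈ P, Pair A (cj x A) := by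
  suffices h : ∀ B, Mem p P B → B ≤ T → ∃ x ∈ P, Pair B (cj x B) by
    obtain ⟨y, hy, hyT⟩ := d.conj_into m.le m.isP
    obtain ⟨x, hx, hxp⟩ := h _ (m.conj hy) hyT
    refine ⟨y⁻¹ * x * y, P.mul_mem (P.mul_mem (P.inv_mem hy) hx) hy, ?_⟩
    have := hxp.conj y⁻¹
    rwa [← cj_mul, inv_mul_cancel, cj_one, ← cj_mul, ← cj_mul] at this
  intro B mB hBT
  rcases d.split hBT mB.ne with hgen | ⟨L, L₀, T₁, y, l⟩
  · have h := d.setup hBT mB.el mB.eq.ge (fun C hC h1 h2 => mB.eq.symm ▸ mB.strict C hC h1 h2) hgen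
    obtain ⟨x, hx, hxM⟩ := h.exists_outside
    exact ⟨x, hx, Setup.pair h hx hxM⟩
  obtain ⟨φ, hS, hd, hk⟩ := l.exists_rep d
  obtain ⟨eB, mI, -, hinjB⟩ := l.mem_img d hS hd hk mB l.AT l.notA
  obtain ⟨x, hxL, hxL₀⟩ := SetLike.exists_of_lt l.good.lt
  have hkerL₀ : ∀ g : L, φ g = 1 → (g : Γ W) ∈ L₀ := fun g hg =>
    l.vec_le d ⟨g.2, fun u hu => (hk g).1 hg u (fix_mono l.QT hu)⟩
  have hout : ∀ g : L, φ g ∉ img φ L₀ → (g : Γ W) ∉ L₀ := fun g hg hg' => hg ⟨g, hg', rfl⟩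
  have hQ : ∀ g : L, (g : Γ W) ∈ Cfsg.pCoreOf p L → φ g = 1 :=
    fun g hg => (hk g).2 fun w hw => hw _ hg
  have hgen : ∀ z ∈ φ.range, z ∉ img φ L₀ → img φ B ⊔ cj z (img φ B) = φ.range := by
    rintro _ ⟨g, rfl⟩ hg
    exact l.gen_img φ hQ (hout g hg)
  have h := hd.setup (img_mono l.AT) mI.el mI.eq.ge
    (fun C hC h1 h2 => mI.eq.symm ▸ mI.strict C hC h1 h2) hgen
  have hxI : φ ⟨x, hxL⟩ ∉ img φ L₀ := fun hx => by
    obtain ⟨g, hg, e⟩ := mem_img_iff.1 hx
    have h1 : ((g⁻¹ * ⟨x, hxL⟩ : L) : Γ W) ∈ L₀ :=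
      hkerL₀ _ (by rw [map_mul, map_inv, e, inv_mul_cancel])
    exact hxL₀ (by simpa using L₀.mul_mem hg h1)
  have hp := Setup.pair h ⟨⟨x, hxL⟩, rfl⟩ hxI
  rw [← img_cj] at hp
  have hBL : B ≤ L := l.AT.trans (good_le l.good)
  have eC := eB.conj hS ⟨x, hxL⟩
  refine ⟨x, l.LP hxL, Pair.lift hS hBL (cj_le hxL hBL) eB eC (fun g hg h1 => ?_) hp⟩
  have hdec := Exact.decomp hS eB eC hp.sup_fix
  refine Subtype.ext (ext_smul fun w => ?_)
  obtain ⟨u, hu⟩ := hdec w
  have e1 := (hk g).1 h1 u u.2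
  have e2 := hu g hg
  rw [smul_sub, e1, sub_left_inj] at e2
  rw [OneMemClass.coe_one, one_smul]
  exact e2

/-- A nontrivial element of a minimal offender has its fixed points. -/
theorem mem_fix_of_eq {A : Subgroup (Γ W)} (m : Mem p P A) {a : Γ W} (ha : a ∈ A) (ha1 : a ≠ 1)
    {w : W} (h : a • w = w) : w ∈ fix A := by
  obtain ⟨x, -, hp⟩ := d.exists_pair m
  exact hp.mem_fix_of_eq ha ha1 h

/-- The fixed points determine a minimal offender. -/
theorem eq_of_fix_eq {A B : Subgroup (Γ W)} (mA : Mem p P A) (mB : Mem p P B)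
    (h : fix A = fix B) : A = B := by
  have hcomm : Comm A B := by
    intro a ha b hb
    refine ext_smul fun w => ?_
    have e1 := mA.sub_mem_fix d.hp ha w
    have e2 := mB.sub_mem_fix d.hp hb w
    have e3 : b • (a • w - w) = a • w - w := (h ▸ e1 : a • w - w ∈ fix B) b hb
    have e4 : a • (b • w - w) = b • w - w := (h.symm ▸ e2 : b • w - w ∈ fix A) a ha
    rw [smul_sub, sub_eq_iff_eq_add] at e3 e4
    rw [mul_smul, mul_smul, e3, e4]
    abel
  have hb := d.bound (sup_le mA.le mB.le) (el_sup mA.el mB.el hcomm)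
  rw [mu, fix_sup, h, inf_idem, ← mB.eq, mu] at hb
  have hc := Nat.le_of_mul_le_mul_right hb Nat.card_pos
  have h1 : B = A ⊔ B := Subgroup.eq_of_le_of_card_ge le_sup_right hc
  have hc' : Nat.card ↥(A ⊔ B) ≤ Nat.card A := by
    have e := mA.eq.trans mB.eq.symm
    rw [mu, mu, h] at e
    rw [Nat.eq_of_mul_eq_mul_right Nat.card_pos e]
    exact hc
  exact (Subgroup.eq_of_le_of_card_ge le_sup_left hc').trans h1.symm

/-- An element stabilising the fixed points normalises the offender. -/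
theorem cj_eq_of_stab {A : Subgroup (Γ W)} (m : Mem p P A) {g : Γ W} (hg : g ∈ P)
    (h : ∀ u ∈ fix A, g • u ∈ fix A) : cj g A = A := by
  refine d.eq_of_fix_eq (m.conj hg) m (AddSubgroup.ext fun w => ?_)
  rw [mem_fix_cj]
  exact (mem_stab h (g⁻¹ • w)).symm.trans (by rw [smul_inv_smul])

/-- Two distinct commuting minimal offenders. -/
theorem comm_distinct {A B : Subgroup (Γ W)} (mA : Mem p P A) (mB : Mem p P B) (hne : A ≠ B)
    (hc : Comm A B) : A ⊓ B = ⊥ ∧ fix A ⊔ fix B = ⊤ ∧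
      ∀ a ∈ A, ∀ w : W, a • w - w ∈ fix B := by
  have hinf : A ⊓ B = ⊥ := by
    by_contra h
    obtain ⟨a, ha, ha1⟩ := (Subgroup.bot_or_exists_ne_one (A ⊓ B)).resolve_left h
    refine hne (d.eq_of_fix_eq mA mB (le_antisymm (fun w hw => ?_) fun w hw => ?_))
    · exact d.mem_fix_of_eq mB ha.2 ha1 (hw a ha.1)
    · exact d.mem_fix_of_eq mA ha.1 ha1 (hw a ha.2)
  have hsup : fix A ⊔ fix B = ⊤ := by
    refine AddSubgroup.eq_top_of_le_card _ ?_
    have hb := d.bound (sup_le mA.le mB.le) (el_sup mA.el mB.el hc)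
    rw [mu, fix_sup] at hb
    have c1 := card_mul_commute hc
    rw [hinf, Subgroup.card_bot, mul_one] at c1
    have c2 := addCard_mul (fix A) (fix B)
    have e1 := mA.eq
    have e2 := mB.eq
    rw [mu] at e1 e2
    have h0 : 0 < Nat.card W := Nat.card_pos
    refine Nat.le_of_mul_le_mul_left ?_ h0
    calc Nat.card W * Nat.card W
        = (Nat.card A * Nat.card B) * (Nat.card (fix A) * Nat.card (fix B)) := by
          rw [← e1]; nth_rewrite 2 [e1]; rw [← e2]; ring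
      _ = Nat.card ↥(A ⊔ B) * Nat.card ↥(fix A ⊓ fix B) * Nat.card ↥(fix A ⊔ fix B) := by
          rw [c1, c2]; ring
      _ ≤ _ := Nat.mul_le_mul_right _ hb
  refine ⟨hinf, hsup, fun a ha w => ?_⟩
  obtain ⟨u, hu, v, hv, rfl⟩ := AddSubgroup.mem_sup.1 (hsup.symm ▸ AddSubgroup.mem_top w)
  rw [smul_add, hu a ha, add_sub_add_left_eq_sub]
  refine (fix B).sub_mem (fun b hb => ?_) hv
  rw [← mul_smul, (hc a ha b hb).symm.eq, mul_smul, hv b hb]

/-- Two minimal offenders in a common `p`-subgroup commute. -/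
theorem key : ∀ (n : ℕ) (R : Subgroup (Γ W)), Nat.card R ≤ n → R ≤ P → IsPGroup p ↥R →
    ∀ A B : Subgroup (Γ W), Mem p P A → Mem p P B → A ≤ R → B ≤ R → Comm A B := by
  intro n
  induction n with
  | zero => intro R hc; exact absurd hc (Nat.card_pos (α := R)).ne'.bot_lt.not_ge
  | succ n ih =>
    intro R hc hRP hRp A B mA mB hA hB
    by_contra hncomm
    have hlt : ∀ R' : Subgroup (Γ W), R' < R → ∀ X Y, Mem p P X → Mem p P Y → X ≤ R' → Y ≤ R' → Comm X Y := by
      intro R' h X Y mX mY hX hY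
      have : Nat.card R' < Nat.card R := lt_of_not_ge fun hge =>
        h.ne (Subgroup.eq_of_le_of_card_ge h.le hge)
      exact ih R' (by omega) (h.le.trans hRP) (hRp.to_le h.le) X Y mX mY hX hY
    have hR : A ⊔ B = R := (sup_le hA hB).eq_or_lt.resolve_right fun h =>
      hncomm (hlt _ h A B mA mB le_sup_left le_sup_right)
    have hconj : ∀ X : Subgroup (Γ W), Mem p P X → X ≤ R → ∀ g ∈ R, Comm X (cj g X) := by
      intro X mX hX g hg
      rcases hX.eq_or_lt with e | hXR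
      · intro a ha b hb
        exact commute_of_mem mX.el ha (e.symm ▸ cj_le hg hX hb)
      haveI := hRp.isNilpotent
      have hX' : X.subgroupOf R ≠ ⊤ := by rw [Ne, Subgroup.subgroupOf_eq_top]; exact hXR.not_ge
      obtain ⟨N, hN, hXN⟩ := (eq_top_or_exists_le_coatom (X.subgroupOf R)).resolve_left hX'
      have hNn : N.Normal := Subgroup.NormalizerCondition.normal_of_coatom N
        (Group.normalizerCondition_of_isNilpotent (G := ↥R)) hN
      have hlt' : N.map R.subtype < R := by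
        refine lt_of_le_of_ne (Subgroup.map_subtype_le N) fun e => hN.1 ?_
        rw [← Subgroup.comap_map_eq_self_of_injective R.subtype_injective N, e]
        exact Subgroup.subgroupOf_self R
      refine hlt _ hlt' X (cj g X) mX (mX.conj (hRP hg)) (fun x hx => ⟨⟨x, hX hx⟩, hXN hx, rfl⟩) ?_
      rintro _ ⟨x, hx, rfl⟩
      exact ⟨⟨g, hg⟩ * ⟨x, hX hx⟩ * ⟨g, hg⟩⁻¹, hNn.conj_mem _ (hXN hx) _, rfl⟩
    -- the consequences of moving
    have hmove : ∀ X Y : Subgroup (Γ W), Mem p P X → Mem p P Y → X ≤ R → Y ≤ R →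
        ∀ b ∈ Y, cj b X ≠ X → fix X ⊔ fix Y = ⊤ ∧ (∀ w, ∃ u ∈ fix X, ∃ v ∈ fix X, w = u + b • v) ∧
          Nat.card ↥(fix X ⊓ fix (cj b X)) * Nat.card X = Nat.card (fix X) ∧
          Nat.card ↥(fix X ⊓ fix Y) * Nat.card Y = Nat.card (fix X) ∧
          fix X ⊓ fix Y ≤ fix X ⊓ fix (cj b X) := by
      intro X Y mX mY hX hY b hb hne
      obtain ⟨-, hs, -⟩ := d.comm_distinct mX (mX.conj (mY.le hb)) (Ne.symm hne) (hconj X mX hX b (hY hb))
      have hdec : ∀ w, ∃ u ∈ fix X, ∃ v ∈ fix X, w = u + b • v := fun w => by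
        obtain ⟨u, hu, v', hv', e⟩ := AddSubgroup.mem_sup.1 (hs.symm ▸ AddSubgroup.mem_top w)
        exact ⟨u, hu, b⁻¹ • v', mem_fix_cj.1 hv', by rw [smul_inv_smul, e]⟩
      have hs' : fix X ⊔ fix Y = ⊤ := eq_top_iff.2 fun w _ => by
        obtain ⟨u, hu, v', hv', rfl⟩ := hdec w
        rw [show u + b • v' = (u + v') + (b • v' - v') by abel]
        exact AddSubgroup.add_mem_sup (add_mem hu hv') (mY.sub_mem_fix d.hp hb v')
      refine ⟨hs', hdec, ?_, ?_, le_inf inf_le_left fun w hw => mem_fix_cj.2 ?_⟩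
      · have e := addCard_mul (fix X) (fix (cj b X))
        rw [hs, AddSubgroup.card_top, card_fix_cj, ← mX.eq, mu] at e
        refine Nat.eq_of_mul_eq_mul_right (Nat.card_pos (α := fix X)) ?_
        rw [e]; ring
      · have e := addCard_mul (fix X) (fix Y)
        rw [hs', AddSubgroup.card_top, ← mY.eq, mu] at e
        refine Nat.eq_of_mul_eq_mul_right (Nat.card_pos (α := fix Y)) ?_
        rw [e]; ring
      · rw [show b⁻¹ • w = w from hw.2 _ (inv_mem hb)]
        exact hw.1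
    wlog hBA : ∀ a ∈ A, cj a B = B generalizing A B with hsymm
    · by_cases hAB : ∀ b ∈ B, cj b A = A
      · exact hsymm B A mB mA hB hA (fun h => hncomm h.symm) (by rw [sup_comm]; exact hR) hAB
      push Not at hBA hAB
      obtain ⟨a, ha, hane⟩ := hBA
      obtain ⟨b, hb, hbne⟩ := hAB
      obtain ⟨-, -, h1, h2, hle⟩ := hmove A B mA mB hA hB b hb hbne
      obtain ⟨-, -, h3, h4, hle'⟩ := hmove B A mB mA hB hA a ha hane
      -- the two orders agree
      have hqA : Nat.card A ≤ Nat.card B := by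
        refine Nat.le_of_mul_le_mul_left ?_ (Nat.card_pos (α := ↥(fix A ⊓ fix B)))
        rw [h2, ← h1]
        exact Nat.mul_le_mul_right _ (AddSubgroup.card_le_of_le hle)
      have hqB : Nat.card B ≤ Nat.card A := by
        refine Nat.le_of_mul_le_mul_left ?_ (Nat.card_pos (α := ↥(fix B ⊓ fix A)))
        rw [h4, ← h3]
        exact Nat.mul_le_mul_right _ (AddSubgroup.card_le_of_le hle')
      have hD : fix A ⊓ fix B = fix A ⊓ fix (cj b A) := by
        refine AddSubgroup.eq_of_le_of_card_ge hle ?_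
        refine Nat.le_of_mul_le_mul_right ?_ (Nat.card_pos (α := A))
        rw [h1, ← h2, le_antisymm hqA hqB]
      refine hane (d.cj_eq_of_stab mB (mA.le ha) fun u hu => ?_)
      have hmem : a • u - u ∈ fix A ⊓ fix (cj b A) :=
        ⟨mA.sub_mem_fix d.hp ha u, (d.comm_distinct mA (mA.conj (mB.le hb)) (Ne.symm hbne)
          (hconj A mA hA b (hB hb))).2.2 a ha u⟩
      rw [← hD] at hmem
      simpa using add_mem hmem.2 hu
    -- `A` normalises `B`
    by_cases hAB : ∀ b ∈ B, cj b A = A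
    · refine hncomm fun a ha b hb => ?_
      by_cases hne : A = B
      · exact commute_of_mem mB.el (hne ▸ ha) hb
      have h1 : a * b * a⁻¹ * b⁻¹ ∈ A ⊓ B := by
        refine ⟨?_, B.mul_mem ((hBA a ha).le (conj_mem_cj hb)) (B.inv_mem hb)⟩
        rw [mul_assoc a b a⁻¹, mul_assoc]
        exact A.mul_mem ha ((hAB b hb).le (conj_mem_cj (A.inv_mem ha)))
      by_cases h2 : a * b * a⁻¹ * b⁻¹ = 1
      · rwa [mul_inv_eq_one, mul_inv_eq_iff_eq_mul] at h2
      · exact absurd (d.eq_of_fix_eq mA mB (le_antisymm (fun w hw => d.mem_fix_of_eq mB h1.2 h2 (hw _ h1.1))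
          fun w hw => d.mem_fix_of_eq mA h1.1 h2 (hw _ h1.2))) hne
    push Not at hAB
    obtain ⟨b, hb, hbne⟩ := hAB
    obtain ⟨hs, hdec, h1, h2, hle⟩ := hmove A B mA mB hA hB b hb hbne
    have hWA : ∀ a ∈ A, ∀ w : W, a • w - w ∈ fix B := fun a ha w => by
      obtain ⟨u, hu, v', hv', rfl⟩ := AddSubgroup.mem_sup.1 (hs.symm ▸ AddSubgroup.mem_top w)
      rw [smul_add, hu a ha, add_sub_add_left_eq_sub]
      refine (fix B).sub_mem ?_ hv'
      have := smul_mem_fix_cj (g := a) hv'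
      rwa [hBA a ha] at this
    let β : A → B := fun a => ⟨(a : Γ W) * b * (a : Γ W)⁻¹ * b⁻¹,
      B.mul_mem ((hBA a a.2).le (conj_mem_cj hb)) (B.inv_mem hb)⟩
    have hβ : ∀ (a : A) (w : W), ((β a : Γ W)) • w - w = (a : Γ W) • (b • w - w) - (b • w - w) := by
      intro a w
      have e1 := mB.mul_sub d.hp (β a).2 hb w
      rw [show ((β a : Γ W)) * b = (a : Γ W) * b * (a : Γ W)⁻¹ by
        show (a : Γ W) * b * (a : Γ W)⁻¹ * b⁻¹ * b = _
        group] at e1
      have e2 : b • ((a : Γ W)⁻¹ • w) - (a : Γ W)⁻¹ • w = b • w - w := by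
        have hx := hWA _ (A.inv_mem a.2) w b hb
        rw [smul_sub, sub_eq_sub_iff_sub_eq_sub] at hx
        exact hx
      have e3 : ((a : Γ W) * b * (a : Γ W)⁻¹) • w - w = (a : Γ W) • (b • w - w) := by
        rw [← e2, smul_sub, mul_smul, mul_smul, smul_inv_smul]
      rw [e3] at e1
      rw [e1]; abel
    have hinj : Function.Injective β := by
      intro a a' e
      refine Subtype.ext (ext_smul fun w => ?_)
      obtain ⟨u, hu, v', hv', rfl⟩ := hdec w
      have h3 : (a : Γ W) • (b • v' - v') = (a' : Γ W) • (b • v' - v') := by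
        have := hβ a v'
        rw [e, hβ a' v'] at this
        exact (sub_left_inj.1 this).symm
      rw [smul_sub, smul_sub, hv' a a.2, hv' a' a'.2, sub_left_inj] at h3
      rw [smul_add, smul_add, hu a a.2, hu a' a'.2, h3]
    have hβA : ∀ a : A, cj (β a : Γ W) A = A := fun a =>
      d.cj_eq_of_stab mA (mB.le (β a).2) fun u hu => by
        have := hβ a u
        rw [sub_eq_iff_eq_add] at this
        rw [this]
        exact add_mem (mA.sub_mem_fix d.hp a.2 _) hu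
    obtain ⟨a₀, ha₀, ha₀1⟩ := mA.exists_ne_one
    have hβ1 : (β ⟨a₀, ha₀⟩ : Γ W) ≠ 1 := fun e => ha₀1 (by
      have h3 : β ⟨a₀, ha₀⟩ = β 1 := Subtype.ext (by
        rw [e]
        show (1 : Γ W) = 1 * b * 1⁻¹ * b⁻¹
        group)
      exact congrArg Subtype.val (hinj h3))
    have hDI : fix A ⊓ fix (cj b A) ≤ fix A ⊓ fix B := by
      intro u hu
      refine ⟨hu.1, ?_⟩
      have hu' : b⁻¹ • u ∈ fix A := mem_fix_cj.1 hu.2
      have h3 : b⁻¹ • u ∈ fix B := by
        refine d.mem_fix_of_eq mB (β ⟨a₀, ha₀⟩).2 hβ1 ?_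
        have := hβ ⟨a₀, ha₀⟩ (b⁻¹ • u)
        rw [smul_inv_smul, smul_sub, hu.1 a₀ ha₀, hu' a₀ ha₀, sub_self, sub_eq_zero] at this
        exact this
      have e := h3 b hb
      rw [smul_inv_smul] at e
      rw [e]; exact h3
    have hq : Nat.card A = Nat.card B := by
      refine Nat.eq_of_mul_eq_mul_left (Nat.card_pos (α := ↥(fix A ⊓ fix B))) ?_
      rw [h2]
      nth_rewrite 1 [le_antisymm hle hDI]
      rw [h1]
    let B₁ : Set B := {x | cj (x : Γ W) A = A}
    have h5 : Nat.card A ≤ Nat.card B₁ :=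
      Nat.card_le_card_of_injective (fun a => (⟨β a, hβA a⟩ : B₁)) fun a a' e =>
        hinj (congrArg Subtype.val e)
    have h6 : Nat.card B₁ < Nat.card B := by
      refine Finite.card_subtype_lt (x := ⟨b, hb⟩) ?_
      exact hbne
    omega

/-- Two minimal offenders in a common `p`-subgroup commute. -/
theorem comm_of_isPGroup {A B R : Subgroup (Γ W)} (mA : Mem p P A) (mB : Mem p P B) (hR : R ≤ P)
    (hRp : IsPGroup p ↥R) (hA : A ≤ R) (hB : B ≤ R) : Comm A B :=
  d.key _ R le_rfl hR hRp A B mA mB hA hB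

/-- Two minimal offenders of `T` commute. -/
theorem comm_T {A B : Subgroup (Γ W)} (mA : Mem p P A) (mB : Mem p P B) (hA : A ≤ T) (hB : B ≤ T) :
    Comm A B :=
  d.comm_of_isPGroup mA mB d.TP d.hT hA hB

/-- If `[W, B]` is fixed by `A`, the two commute. -/
theorem comm_of_sub {A B : Subgroup (Γ W)} (mA : Mem p P A) (mB : Mem p P B)
    (h : ∀ b ∈ B, ∀ w : W, b • w - w ∈ fix A) : Comm A B := by
  have hn : B ≤ Subgroup.normalizer (A : Set (Γ W)) := fun b hb => by
    have e := d.cj_eq_of_stab mA (mB.le hb) fun u hu => by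
      simpa using add_mem (h b hb u) hu
    exact CfsgLib.PRed.mem_normalizer_of_conj_mem fun z hz => e.le (conj_mem_cj hz)
  refine d.comm_of_isPGroup mA mB (R := B ⊔ A) (sup_le mB.le mA.le) ?_ le_sup_right le_sup_left
  exact mB.isP.to_sup_of_normal_right' mA.isP hn

/-- An element commuting with a nontrivial element of a minimal offender normalises it. -/
theorem cj_eq_of_commute {A : Subgroup (Γ W)} (m : Mem p P A) {a g : Γ W} (ha : a ∈ A) (ha1 : a ≠ 1)
    (hg : g ∈ P) (hc : Commute g a) : cj g A = A :=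
  d.cj_eq_of_stab m hg fun u hu => d.mem_fix_of_eq m ha ha1 (by
    rw [← mul_smul, ← hc.eq, mul_smul, hu a ha])

end Dat

end CfsgLib.LocalEven.PMinFF
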